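import Groth.Agent.RelDualUniqLib.Exists

/-!
# Relative dualizing complexes commute with base change
-/

set_option autoImplicit false
set_option backward.isDefEq.respectTransparency false
set_option linter.style.haveILetI false

universe u

open CategoryTheory CategoryTheory.Limits
open scoped TensorProduct
attribute [local instance] HasDerivedCategory.standard

noncomputable section

namespace Groth.Agent.RelDualUniqLib

open DRingLib DCohLib ShriekAlgLib

/-- Being relative dualizing is invariant under isomorphisms. -/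
theorem isRelDualizing_of_iso {R A : Type u} [CommRing R] [CommRing A] [Algebra R A]
    [DRing.HasLBaseChange (Algebra.TensorProduct.includeLeftRingHom : A →+* A ⊗[R] A)]
    {Rμ : Dual.D (A ⊗[R] A) ⥤ Dual.D A} {K L : Dual.D A} (e : K ≅ L) (h : Dual2.IsRelDualizing R A Rμ K) :
    Dual2.IsRelDualizing R A Rμ L :=
  ⟨RelPerfH7.isRelPerfect_of_iso e h.1, h.2.map fun ξ =>
    Rμ.mapIso ((DRing.LBaseChange _).mapIso e.symm) ≪≫ ξ⟩

attribute [local instance] Algebra.TensorProduct.rightAlgebra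

/-- The base change of a relative dualizing complex is relative dualizing. -/
theorem isRelDualizing_baseChange (R A : Type u) [CommRing R] [CommRing A] [Algebra R A] [Module.Flat R A]
    [Algebra.FinitePresentation R A]
    [DRing.HasLBaseChange (Algebra.TensorProduct.includeLeftRingHom : A →+* A ⊗[R] A)]
    (Rμ : Dual.D (A ⊗[R] A) ⥤ Dual.D A)
    (adjμ : DRing.restrictD (Algebra.TensorProduct.lmul' R (S := A)).toRingHom ⊣ Rμ)
    (K : Dual.D A) (hK : Dual2.IsRelDualizing R A Rμ K) (R' : Type u) [CommRing R'] [Algebra R R']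
    [DRing.HasLBaseChange (Algebra.TensorProduct.includeRight : A →ₐ[R] R' ⊗[R] A).toRingHom]
    [DRing.HasLBaseChange
      (Algebra.TensorProduct.includeLeftRingHom : R' ⊗[R] A →+* (R' ⊗[R] A) ⊗[R'] (R' ⊗[R] A))]
    (Rμ' : Dual.D ((R' ⊗[R] A) ⊗[R'] (R' ⊗[R] A)) ⥤ Dual.D (R' ⊗[R] A))
    (adjμ' : DRing.restrictD (Algebra.TensorProduct.lmul' R' (S := R' ⊗[R] A)).toRingHom ⊣ Rμ') :
    Dual2.IsRelDualizing R' (R' ⊗[R] A) Rμ'
      ((DRing.LBaseChange (Algebra.TensorProduct.includeRight : A →ₐ[R] R' ⊗[R] A).toRingHom).obj K) := by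
  obtain ⟨n, ψ, hψ, -⟩ := Algebra.FinitePresentation.out (R := R) (A := A)
  let P := MvPolynomial (Fin n) R
  obtain ⟨W₀, hW₀⟩ := exists_isCoind ψ.toRingHom (Dual.inD P P)
  obtain ⟨V, -, -, hV⟩ := exists_dual_iso R A Rμ adjμ
  obtain ⟨e₁⟩ := hV K hK.2
  obtain ⟨e₂⟩ := hV _ (isRelDualizing_of_coind R A Rμ adjμ n ψ hψ W₀ hW₀).2
  letI : Algebra P A := ψ.toRingHom.toAlgebra
  haveI : IsScalarTower R P A := .of_algebraMap_eq fun r => (ψ.commutes r).symm
  obtain ⟨F, π, hb, hF, hπ⟩ := exists_resolution R A n hψ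
  have hFB : Bdd FProj F := ⟨⟨-(n : ℤ), 0, hb⟩, hF⟩
  haveI := isIso_Q_of_qis _ hπ
  obtain ⟨r⟩ := nonempty_restrictD_inD (algebraMap P A) (ModuleCat.of A A)
  let eF : DRing.toD F ≅ (DRing.restrictD (algebraMap P A)).obj (Dual.inD A A) :=
    asIso (DerivedCategory.Q.map π) ≪≫ singleQZeroIso (resMod (P := P) A) ≪≫ r.symm
  haveI : (Dual.inD P P).IsGE 0 :=
    inferInstanceAs (((DerivedCategory.singleFunctor (ModuleCat.{u} P) 0).obj _).IsGE 0)
  obtain ⟨b, hbW⟩ := exists_upper_bound_coind (Dual.inD P P) (algebraMap P A) hW₀ 0 ⟨F, hFB, ⟨eF⟩⟩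
  have hA₀ : AboveZero (b + 1) W₀ := fun i hi => by
    haveI := hbW i (by omega)
    exact ModuleCat.isZero_of_subsingleton _
  obtain ⟨E, hEb, hEp, ⟨eE⟩⟩ := exists_proj_representative hA₀
  obtain ⟨φ, hφC, -, hφs, F', π', W, -, -, -, -, hW, -, -, -, ⟨eW⟩⟩ :=
    exists_dual_data R R' A n hψ hF hb π hπ eF hEb hEp (hW₀.of_iso (Iso.refl _) eE.symm)
  let φₐ : MvPolynomial (Fin n) R' →ₐ[R'] R' ⊗[R] A := { φ with commutes' := hφC }
  haveI : DRing.HasLBaseChange (algebraMap A (R' ⊗[R] A)) :=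
    ‹DRing.HasLBaseChange (Algebra.TensorProduct.includeRight : A →ₐ[R] R' ⊗[R] A).toRingHom›
  exact isRelDualizing_of_iso
    ((shiftFunctor (Dual.D (R' ⊗[R] A)) (n : ℤ)).mapIso eW ≪≫
      (DualCxLib.bcShiftIso A (R' ⊗[R] A) (DRing.toD E) (n : ℤ)).symm ≪≫
      (DRing.LBaseChange _).mapIso ((shiftFunctor (Dual.D A) (n : ℤ)).mapIso eE ≪≫ e₂.symm ≪≫ e₁))
    (isRelDualizing_of_coind R' (R' ⊗[R] A) Rμ' adjμ' n φₐ hφs _ hW)

end Groth.Agent.RelDualUniqLib
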