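import Groth.Agent.RelDualUniqLib.BaseChange
import Groth.Agent.ShriekAlgLib.RegCoind
import Groth.Agent.DRingLib.TensorPerfect

/-!
# Relative dualizing complexes of a composition
-/

set_option autoImplicit false
set_option backward.isDefEq.respectTransparency false
set_option linter.style.haveILetI false
set_option maxHeartbeats 1000000

universe u

open CategoryTheory CategoryTheory.Limits MonoidalCategory
open scoped TensorProduct
attribute [local instance] HasDerivedCategory.standard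

noncomputable section

namespace Groth.Agent.RelDualUniqLib

open DRingLib DCohLib ShriekAlgLib

/-- A projective model of the coinduction of the polynomial ring, with its resolution. -/
theorem exists_coind_model (R A : Type u) [CommRing R] [CommRing A] [Algebra R A] [Module.Flat R A]
    [Algebra.FinitePresentation R A] (n : ℕ) (ψ : MvPolynomial (Fin n) R →ₐ[R] A) (hψ : Function.Surjective ψ) :
    letI := ψ.toRingHom.toAlgebra
    ∃ (F : DRing.Cx (MvPolynomial (Fin n) R)) (π : F ⟶ sng 0 (resMod (P := MvPolynomial (Fin n) R) A))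
      (E : DRing.Cx A) (b : ℤ),
      DRing.VanishesOutside F (-(n : ℤ)) 0 ∧ (∀ i, FProj (F.X i)) ∧ QuasiIso π ∧
      DRing.VanishesAbove E b ∧ (∀ i, Module.Projective A (E.X i)) ∧
      IsCoind ψ.toRingHom (Dual.inD (MvPolynomial (Fin n) R) (MvPolynomial (Fin n) R)) (DRing.toD E) ∧
      Nonempty (DRing.toD F ≅
        (DRing.restrictD (algebraMap (MvPolynomial (Fin n) R) A)).obj (Dual.inD A A)) := by
  let P := MvPolynomial (Fin n) R
  letI : Algebra P A := ψ.toRingHom.toAlgebra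
  haveI : IsScalarTower R P A := .of_algebraMap_eq fun r => (ψ.commutes r).symm
  obtain ⟨F, π, hb, hF, hπ⟩ := exists_resolution R A n hψ
  have hFB : Bdd FProj F := ⟨⟨-(n : ℤ), 0, hb⟩, hF⟩
  haveI := isIso_Q_of_qis _ hπ
  obtain ⟨r⟩ := nonempty_restrictD_inD (algebraMap P A) (ModuleCat.of A A)
  let eF : DRing.toD F ≅ (DRing.restrictD (algebraMap P A)).obj (Dual.inD A A) :=
    asIso (DerivedCategory.Q.map π) ≪≫ singleQZeroIso (resMod (P := P) A) ≪≫ r.symm
  obtain ⟨W₀, hW₀⟩ := exists_isCoind ψ.toRingHom (Dual.inD P P)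
  obtain ⟨b, hbW⟩ := exists_upper_bound_coind (Dual.inD P P) (algebraMap P A) hW₀ 0 ⟨F, hFB, ⟨eF⟩⟩
  have hA₀ : AboveZero (b + 1) W₀ := fun i hi => by
    haveI := hbW i (by omega)
    exact ModuleCat.isZero_of_subsingleton _
  obtain ⟨E, hEb, hEp, ⟨eE⟩⟩ := exists_proj_representative hA₀
  exact ⟨F, π, E, _, hb, hF, hπ, hEb, hEp, hW₀.of_iso (Iso.refl _) eE.symm, ⟨eF⟩⟩

/-- A relative dualizing complex is the shifted coinduction of the polynomial ring of any presentation. -/
theorem nonempty_iso_coind (R A : Type u) [CommRing R] [CommRing A] [Algebra R A] [Module.Flat R A]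
    [Algebra.FinitePresentation R A]
    [DRing.HasLBaseChange (Algebra.TensorProduct.includeLeftRingHom : A →+* A ⊗[R] A)]
    (Rμ : Dual.D (A ⊗[R] A) ⥤ Dual.D A)
    (adjμ : DRing.restrictD (Algebra.TensorProduct.lmul' R (S := A)).toRingHom ⊣ Rμ)
    (K : Dual.D A) (hK : Dual2.IsRelDualizing R A Rμ K)
    (n : ℕ) (ψ : MvPolynomial (Fin n) R →ₐ[R] A) (hψ : Function.Surjective ψ) (W₀ : Dual.D A)
    (hW₀ : IsCoind ψ.toRingHom (Dual.inD (MvPolynomial (Fin n) R) (MvPolynomial (Fin n) R)) W₀) :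
    Nonempty (K ≅ W₀⟦(n : ℤ)⟧) := by
  obtain ⟨V, -, -, hV⟩ := exists_dual_iso R A Rμ adjμ
  obtain ⟨e₁⟩ := hV K hK.2
  obtain ⟨e₂⟩ := hV _ (isRelDualizing_of_coind R A Rμ adjμ n ψ hψ W₀ hW₀).2
  exact ⟨e₁.symm ≪≫ e₂⟩

/-- K-flatness is stable under shifts. -/
theorem isKFlat_shift' {B : Type u} [CommRing B] {X : DRing.Cx B} (hX : DRing.IsKFlat B X) (n : ℤ) :
    DRing.IsKFlat B (X⟦n⟧) :=
  (DTenLib.isKFlat_iff _).2 (KFlat.isKFlatFor_shift (curriedTensor (ModuleCat.{u} B)) ((DTenLib.isKFlat_iff _).1 hX) n)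

attribute [local instance] MvPolynomial.algebraMvPolynomial

/-- The tensor product of relative dualizing complexes is relative dualizing for the composition. -/
theorem isRelDualizing_comp (R A B : Type u) [CommRing R] [CommRing A] [CommRing B] [Algebra R A] [Algebra A B]
    [Algebra R B] [IsScalarTower R A B] [Module.Flat R A] [Algebra.FinitePresentation R A] [Module.Flat A B]
    [Algebra.FinitePresentation A B]
    [DRing.HasLBaseChange (Algebra.TensorProduct.includeLeftRingHom : A →+* A ⊗[R] A)]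
    (RμA : Dual.D (A ⊗[R] A) ⥤ Dual.D A)
    (adjA : DRing.restrictD (Algebra.TensorProduct.lmul' R (S := A)).toRingHom ⊣ RμA)
    [DRing.HasLBaseChange (Algebra.TensorProduct.includeLeftRingHom : B →+* B ⊗[A] B)]
    (RμBA : Dual.D (B ⊗[A] B) ⥤ Dual.D B)
    (adjBA : DRing.restrictD (Algebra.TensorProduct.lmul' A (S := B)).toRingHom ⊣ RμBA)
    [DRing.HasLBaseChange (Algebra.TensorProduct.includeLeftRingHom : B →+* B ⊗[R] B)]
    (RμB : Dual.D (B ⊗[R] B) ⥤ Dual.D B)
    (adjB : DRing.restrictD (Algebra.TensorProduct.lmul' R (S := B)).toRingHom ⊣ RμB)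
    (K : Dual.D A) (hK : Dual2.IsRelDualizing R A RμA K) (L : DRing.Cx B)
    (hL : Dual2.IsRelDualizing A B RμBA (DRing.toD L))
    [DRing.HasLBaseChange (algebraMap A B)] [DRing.HasLTensorCx B L] :
    Dual2.IsRelDualizing R B RμB ((DRing.LTensorCx B L).obj ((DRing.LBaseChange (algebraMap A B)).obj K)) := by
  haveI : Module.Flat R B := Module.Flat.trans R A B
  haveI : Algebra.FinitePresentation R B := Algebra.FinitePresentation.trans R A B
  obtain ⟨n, ψ, hψ, -⟩ := Algebra.FinitePresentation.out (R := R) (A := A)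
  obtain ⟨m, χ, hχ, -⟩ := Algebra.FinitePresentation.out (R := A) (A := B)
  let P := MvPolynomial (Fin n) R
  let R' := MvPolynomial (Fin m) R
  let P' := MvPolynomial (Fin m) P
  let A' := MvPolynomial (Fin m) A
  letI : Algebra P A := ψ.toRingHom.toAlgebra
  haveI : IsScalarTower R P A := .of_algebraMap_eq fun r => (ψ.commutes r).symm
  obtain ⟨F, π, E, b, hb, hF, hπ, hEb, hEp, hE, ⟨eF⟩⟩ := exists_coind_model R A n ψ hψ
  obtain ⟨eK⟩ := nonempty_iso_coind R A RμA adjA K hK n ψ hψ _ hE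
  haveI : IsScalarTower R R' P' := .of_algebraMap_eq fun r => (MvPolynomial.map_C (algebraMap R P) r).symm
  haveI : DRing.HasLBaseChange (algebraMap A A') := DRingLib.hasLBaseChange _
  obtain ⟨F₁, π₁, W, -, -, hWb, hWp, hW, -, -, -, ⟨eW⟩⟩ := exists_dual_data_baseChange R R' P P' A A'
    (MvPolynomial.map_surjective (algebraMap P A) hψ) hF hb π hπ eF hEb hEp hE
  -- the second algebra
  letI : Algebra A' B := χ.toRingHom.toAlgebra
  obtain ⟨F₂, π₂, hb₂, hF₂, hπ₂⟩ := exists_resolution A B m hχ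
  obtain ⟨V₀, hV₀⟩ := exists_isCoind χ.toRingHom (Dual.inD A' A')
  obtain ⟨eL⟩ := nonempty_iso_coind A B RμBA adjBA (DRing.toD L) hL m χ hχ V₀ hV₀
  let V := DerivedCategory.Q.objPreimage V₀
  let eV : DRing.toD V ≅ V₀ := DerivedCategory.Q.objObjPreimageIso V₀
  have hWk : DRing.IsKFlat A' W := isKFlat_of_projective hWb hWp
  let X := (extC A' B).obj W
  have hM : IsCoind (algebraMap A' B) (DRing.toD W) (DRing.toD (X ⊗ V : DRing.Cx B)) :=
    isCoind_tensor π₂ ⟨⟨-(m : ℤ), 0, hb₂⟩, hF₂⟩ hπ₂ hWk (hV₀.of_iso (Iso.refl _) eV.symm)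
  -- the presentation of the composition
  let σ : MvPolynomial (Fin (m + n)) R ≃ₐ[R] P' :=
    (MvPolynomial.renameEquiv R finSumFinEquiv.symm).trans (MvPolynomial.sumAlgEquiv R (Fin m) (Fin n))
  let μ : P' →ₐ[R] A' :=
    { MvPolynomial.map (algebraMap P A) with
      commutes' := fun a => by
        show MvPolynomial.map (algebraMap P A) (algebraMap R P' a) = algebraMap R A' a
        rw [IsScalarTower.algebraMap_apply R P P', IsScalarTower.algebraMap_apply R A A']
        show MvPolynomial.map (algebraMap P A) (MvPolynomial.C (algebraMap R P a)) = MvPolynomial.C (algebraMap R A a)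
        rw [MvPolynomial.map_C]
        exact congrArg MvPolynomial.C (ψ.commutes a) }
  let θ : MvPolynomial (Fin (m + n)) R →ₐ[R] B := ((χ.restrictScalars R).comp μ).comp σ.toAlgHom
  have hθ : Function.Surjective θ :=
    (hχ.comp (MvPolynomial.map_surjective (algebraMap P A) hψ)).comp σ.surjective
  have hθc : IsCoind θ.toRingHom
      (Dual.inD (MvPolynomial (Fin (m + n)) R) (MvPolynomial (Fin (m + n)) R)) (DRing.toD (X ⊗ V : DRing.Cx B)) :=
    (isCoind_bijective σ.toRingEquiv.toRingHom σ.bijective).comp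
      (g := χ.toRingHom.comp (MvPolynomial.map (algebraMap P A))) (RingHom.ext fun _ => rfl)
      (hW.comp (g := χ.toRingHom) rfl hM)
  suffices h : Nonempty ((DRing.toD (X ⊗ V : DRing.Cx B))⟦((m + n : ℕ) : ℤ)⟧ ≅
      (DRing.LTensorCx B L).obj ((DRing.LBaseChange (algebraMap A B)).obj K)) from
    h.elim fun e => isRelDualizing_of_iso e (isRelDualizing_of_coind R B RμB adjB (m + n) θ hθ _ hθc)
  -- the comparison
  haveI : DRing.HasLBaseChange (algebraMap A' B) := DRingLib.hasLBaseChange _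
  have hAB : (algebraMap A' B).comp (algebraMap A A') = algebraMap A B := RingHom.ext χ.commutes
  obtain ⟨e₂⟩ := nonempty_lbc_comp' (algebraMap A A') (algebraMap A' B) (algebraMap A B) hAB (DRing.toD E)
  let eX : DRing.toD (X⟦(n : ℤ)⟧) ≅ (DRing.LBaseChange (algebraMap A B)).obj K :=
    (DerivedCategory.Q.commShiftIso (n : ℤ)).app X ≪≫
      (shiftFunctor (Dual.D B) (n : ℤ)).mapIso ((lbcIso (algebraMap A' B) W hWk).symm ≪≫
        (DRing.LBaseChange (algebraMap A' B)).mapIso eW ≪≫ e₂) ≪≫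
      (DualCxLib.bcShiftIso A B (DRing.toD E) (n : ℤ)).symm ≪≫ (DRing.LBaseChange (algebraMap A B)).mapIso eK.symm
  let eY : DRing.toD (V⟦(m : ℤ)⟧) ≅ DRing.toD L :=
    (DerivedCategory.Q.commShiftIso (m : ℤ)).app V ≪≫ (shiftFunctor (Dual.D B) (m : ℤ)).mapIso eV ≪≫ eL.symm
  have hXk : DRing.IsKFlat B (X⟦(n : ℤ)⟧) := isKFlat_shift' (DTenLib.isKFlat_extCx _ hWk) (n : ℤ)
  obtain ⟨e₃⟩ := nonempty_LTensorCx_iso L hXk eX eY
  exact ⟨(shiftFunctor (Dual.D B) ((m + n : ℕ) : ℤ)).mapIso (DerivedCategory.Q.mapIso (DTen.braidCx X V)) ≪≫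
    (ShriekAlgLib.shiftAddIso _ (n : ℤ) (m : ℤ) ((m + n : ℕ) : ℤ) (by push_cast; ring)).symm ≪≫
    (shiftFunctor (Dual.D B) (m : ℤ)).mapIso (((DerivedCategory.Q.commShiftIso (n : ℤ)).app (V ⊗ X : DRing.Cx B)).symm ≪≫
      DerivedCategory.Q.mapIso
        (CochainComplex.mapBifunctorShift₂Iso V X (curriedTensor (ModuleCat.{u} B)) (n : ℤ)).symm) ≪≫
    ((DerivedCategory.Q.commShiftIso (m : ℤ)).app (V ⊗ (X⟦(n : ℤ)⟧) : DRing.Cx B)).symm ≪≫
    DerivedCategory.Q.mapIso
      (CochainComplex.mapBifunctorShift₁Iso V (X⟦(n : ℤ)⟧) (curriedTensor (ModuleCat.{u} B)) (m : ℤ)).symm ≪≫ e₃⟩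

end Groth.Agent.RelDualUniqLib
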