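import Groth.Agent.RelDualUniqLib.Uniq
import Groth.Agent.RelPerfH7.BaseChange
import Groth.Agent.DRingLib.RestrictPC
import Groth.Agent.DRingLib.RestrictAmp

/-!
# Relative dualizing complexes exist and commute with base change
-/

set_option autoImplicit false
set_option backward.isDefEq.respectTransparency false
set_option linter.style.haveILetI false
set_option linter.unusedSectionVars false

universe u

open CategoryTheory CategoryTheory.Limits Pretriangulated
open scoped TensorProduct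
attribute [local instance] HasDerivedCategory.standard

noncomputable section

namespace Groth.Agent.RelDualUniqLib

open DRingLib DCohLib ShriekAlgLib

/-- An object with the cohomology of the ring, in the sense of maps out of shifts of it. -/
theorem nonempty_iso_inD {A : Type u} [CommRing A] (Z : Dual.D A)
    (e : A ≃ₗ[A] (Dual.inD A A ⟶ Z)) (h : ∀ i : ℤ, i ≠ 0 → Subsingleton (Dual.inD A A ⟶ Z⟦i⟧)) :
    Nonempty (Z ≅ Dual.inD A A) := by
  let f : Dual.inD A A ⟶ Z := e 1
  have hf : Function.Bijective fun a : A => a • f := by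
    convert e.bijective using 1
    funext a
    show a • e 1 = e a
    rw [← map_smul, smul_eq_mul, mul_one]
  have hb : ∀ i : ℤ, Function.Bijective fun v : Dual.inD A A ⟶ (Dual.inD A A)⟦i⟧ => v ≫ f⟦i⟧' := fun i => by
    rcases eq_or_ne i 0 with rfl | hi
    · let z := fun Y : Dual.D A => (shiftFunctorZero (Dual.D A) ℤ).app Y
      convert ((z Z).symm.homToEquiv (Z := Dual.inD A A)).bijective.comp
        (hf.comp ((Equiv.ofBijective _ (bijective_smul_id_inD (A := A))).symm.bijective.comp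
          ((z (Dual.inD A A)).homToEquiv (Z := Dual.inD A A)).bijective)) using 1
      funext v
      let w := v ≫ (z (Dual.inD A A)).hom
      let a := (Equiv.ofBijective _ (bijective_smul_id_inD (A := A))).symm w
      have ha : a • 𝟙 (Dual.inD A A) = w := (Equiv.ofBijective _ (bijective_smul_id_inD (A := A))).apply_symm_apply w
      have hn := (shiftFunctorZero (Dual.D A) ℤ).hom.naturality f
      dsimp at hn
      show v ≫ f⟦(0 : ℤ)⟧' = (a • f) ≫ (z Z).inv
      rw [show a • f = w ≫ f by rw [← ha, Linear.smul_comp, Category.id_comp]]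
      show _ = ((v ≫ (z (Dual.inD A A)).hom) ≫ f) ≫ (z Z).inv
      rw [Category.assoc v, show (z (Dual.inD A A)).hom ≫ f = f⟦(0 : ℤ)⟧' ≫ (z Z).hom from hn.symm,
        Category.assoc, Category.assoc, Iso.hom_inv_id, Category.comp_id]
    · haveI := h i hi
      haveI := subsingleton_inD_shift_hom (A := A) i hi
      exact ⟨fun a b _ => Subsingleton.elim a b, fun w => ⟨0, Subsingleton.elim _ _⟩⟩
  have hiso : IsIso f := DTenLib.isIso_of_bijective_unit f fun n k => by
    let S := shiftFunctor (Dual.D A) n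
    let u : (DTen.unit A)⟦n⟧ ≅ (Dual.inD A A)⟦n⟧ :=
      (shiftFunctor (Dual.D A) n).mapIso (singleQZeroIso (ModuleCat.of A A))
    let c := fun Y : Dual.D A => ((shiftFunctorAdd' (Dual.D A) (k - n) n k (by omega)).app Y).symm
    convert ((u.symm.homFromEquiv (Z := Z⟦k⟧)).bijective.comp ((c Z).homToEquiv (Z := (Dual.inD A A)⟦n⟧)).bijective).comp
      (((Functor.FullyFaithful.ofFullyFaithful S).map_bijective (Dual.inD A A) (Z⟦k - n⟧)).comp ((hb (k - n)).comp
        (((Functor.FullyFaithful.ofFullyFaithful S).homEquiv).symm.bijective.comp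
          ((u.homFromEquiv (Z := (Dual.inD A A)⟦k⟧)).trans ((c (Dual.inD A A)).symm.homToEquiv)).bijective))) using 1
    funext g
    let g' := (Functor.FullyFaithful.ofFullyFaithful S).preimage ((u.inv ≫ g) ≫ (c (Dual.inD A A)).inv)
    show g ≫ f⟦k⟧' = u.hom ≫ S.map (g' ≫ f⟦k - n⟧') ≫ (c Z).hom
    rw [Functor.map_comp, show S.map g' = (u.inv ≫ g) ≫ (c (Dual.inD A A)).inv from
      (Functor.FullyFaithful.ofFullyFaithful S).map_preimage _]
    have hn := (shiftFunctorAdd' (Dual.D A) (k - n) n k (by omega)).hom.naturality f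
    dsimp at hn
    simp only [Category.assoc, Iso.hom_inv_id_assoc]
    rw [show (c (Dual.inD A A)).inv ≫ S.map (f⟦k - n⟧') ≫ (c Z).hom = f⟦k⟧' from ?_]
    show (shiftFunctorAdd' (Dual.D A) (k - n) n k (by omega)).hom.app (Dual.inD A A) ≫ (f⟦k - n⟧')⟦n⟧' ≫
      (shiftFunctorAdd' (Dual.D A) (k - n) n k (by omega)).inv.app Z = f⟦k⟧'
    rw [← Category.assoc, ← hn, Category.assoc, Iso.hom_inv_id_app, Category.comp_id]
  exact ⟨(@asIso _ _ _ _ f hiso).symm⟩

variable (R A : Type u) [CommRing R] [CommRing A] [Algebra R A] [Module.Flat R A]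
  [Algebra.FinitePresentation R A]
  [DRing.HasLBaseChange (Algebra.TensorProduct.includeLeftRingHom : A →+* A ⊗[R] A)]
  (Rμ : Dual.D (A ⊗[R] A) ⥤ Dual.D A)
  (adjμ : DRing.restrictD (Algebra.TensorProduct.lmul' R (S := A)).toRingHom ⊣ Rμ)
  (n : ℕ) (ψ : MvPolynomial (Fin n) R →ₐ[R] A) (hψ : Function.Surjective ψ) (W₀ : Dual.D A)
  (hW₀ : IsCoind ψ.toRingHom (Dual.inD (MvPolynomial (Fin n) R) (MvPolynomial (Fin n) R)) W₀)

include hψ hW₀ in
/-- The shifted coinduction of the polynomial ring is perfect relative to the base. -/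
theorem isRelPerfect_of_coind : Dual2.IsRelPerfect R A (W₀⟦(n : ℤ)⟧) := by
  let P := MvPolynomial (Fin n) R
  letI : Algebra P A := ψ.toRingHom.toAlgebra
  haveI : IsScalarTower R P A := .of_algebraMap_eq fun r => (ψ.commutes r).symm
  obtain ⟨F, π, hb, hF, hπ⟩ := exists_resolution R A n hψ
  have hFB : Bdd FProj F := ⟨⟨-(n : ℤ), 0, hb⟩, hF⟩
  haveI := isIso_Q_of_qis _ hπ
  obtain ⟨r⟩ := nonempty_restrictD_inD (algebraMap P A) (ModuleCat.of A A)
  let eF : DRing.toD F ≅ (DRing.restrictD (algebraMap P A)).obj (Dual.inD A A) :=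
    asIso (DerivedCategory.Q.map π) ≪≫ singleQZeroIso (resMod (P := P) A) ≪≫ r.symm
  haveI : (Dual.inD P P).IsGE 0 :=
    inferInstanceAs (((DerivedCategory.singleFunctor (ModuleCat.{u} P) 0).obj _).IsGE 0)
  obtain ⟨eD⟩ := nonempty_res_coind A 0 hW₀ (Iso.refl _) hFB eF
  have hperf : Perf FProj ((DRing.restrictD (algebraMap P A)).obj W₀) := ⟨dualCx F, dualCx_bdd hFB, ⟨eD.symm⟩⟩
  have hpcA : PCMap (algebraMap P A) := fun m =>
    (isPseudoCoherent'_iff _).1 (pcPrime_of_perf ⟨F, hFB, ⟨eF⟩⟩) m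
  refine RelPerfH7.isRelPerfect_shift ⟨(isPseudoCoherent'_iff _).2 fun m =>
    hpcA.descend ((isPseudoCoherent'_iff _).1 (pcPrime_of_perf hperf) m), ?_⟩ (n : ℤ)
  obtain ⟨⟨c, d, hcd⟩, hE⟩ := dualCx_bdd hFB
  have hflat : (algebraMap R P).Flat := RingHom.flat_algebraMap_iff.2 inferInstance
  exact ⟨c, d, amp_of_iso ((resDComp (algebraMap R P) (algebraMap P A) (algebraMap R A)
      (IsScalarTower.algebraMap_eq R P A)).app W₀)
    (amp_restrict_of_flat (algebraMap R P) hflat (a := c) (b := d)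
      ⟨dualCx F, hcd, termwiseFlat_of_projective fun i => (hE i).2, ⟨eD.symm⟩⟩)⟩

include adjμ hψ hW₀ in
/-- The shifted coinduction of the polynomial ring is relative dualizing. -/
theorem isRelDualizing_of_coind : Dual2.IsRelDualizing R A Rμ (W₀⟦(n : ℤ)⟧) := by
  obtain ⟨h1, h2, hV⟩ := dual_of_coind R A Rμ adjμ n ψ hψ W₀ hW₀
  obtain ⟨Ψ⟩ := hV (W₀⟦(n : ℤ)⟧)
  refine ⟨isRelPerfect_of_coind R A n ψ hψ W₀ hW₀, nonempty_iso_inD _ ?_ fun i hi => ?_⟩
  · exact (LinearEquiv.ofBijective (LinearMap.toSpanSingleton A _ (𝟙 (W₀⟦(n : ℤ)⟧))) h1).trans Ψ.symm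
  · obtain ⟨Ψi⟩ := hV ((W₀⟦(n : ℤ)⟧)⟦i⟧)
    obtain ⟨c⟩ := nonempty_coind_bc_shift R A Rμ adjμ (W₀⟦(n : ℤ)⟧) i
    exact (Iso.homCongr (Iso.refl (Dual.inD A A)) c).subsingleton_congr.1
      (Ψi.toEquiv.subsingleton_congr.2 (h2 i hi))

end Groth.Agent.RelDualUniqLib
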