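import Groth.Agent.RelDualUniqLib.Transpose

/-!
# A base change is the Hom complex out of the dual of the algebra into its coinduction
-/

set_option autoImplicit false
set_option backward.isDefEq.respectTransparency false
set_option linter.style.haveILetI false
set_option maxHeartbeats 1000000

universe u

open CategoryTheory CategoryTheory.Limits MonoidalCategory CochainComplex CochainComplex.HomComplex
  HomologicalComplex
open scoped TensorProduct ChangeOfRings
attribute [local instance] HasDerivedCategory.standard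

noncomputable section

namespace Groth.Agent.RelDualUniqLib

open DRingLib DCohLib ShriekAlgLib

variable {P A : Type u} [CommRing P] [CommRing A] [Algebra P A]

/-- Tensoring a Hom complex, naturally in the source. -/
theorem tensorHomCx_pre (G : DRing.Cx P) {F F' : DRing.Cx P} (s : F ⟶ F') (L : DRing.Cx P) :
    (G ◁ homCxPre s L) ≫ tensorHomCx G F L = tensorHomCx G F' L ≫ homCxPre s (G ⊗ L : DRing.Cx P) := by
  refine HomologicalComplex.hom_ext _ _ fun n => mapBifunctor.hom_ext fun p i h =>
    ModuleCat.hom_ext (TensorProduct.ext' fun (g : G.X p) (f : Cochain F' L i) => ?_)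
  show ((tensorHomCx G F L).f n).hom (((G ◁ homCxPre s L).f n).hom (ιBil G (DRing.homCx F' L) p i n h g f)) =
    ((homCxPre s (G ⊗ L : DRing.Cx P)).f n).hom (((tensorHomCx G F' L).f n).hom (ιBil G (DRing.homCx F' L) p i n h g f))
  rw [whiskerLeft_ιBil]
  refine Cochain.ext _ _ fun a b hab => ModuleCat.hom_ext (LinearMap.ext fun x => ?_)
  show ((((tensorHomCx G F L).f n).hom (ιBil G (DRing.homCx F L) p i n h g
      ((Cochain.ofHom s).comp f (zero_add i))) : Cochain F (G ⊗ L : DRing.Cx P) n).v a b hab).hom x =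
    (((Cochain.ofHom s).comp (((tensorHomCx G F' L).f n).hom (ιBil G (DRing.homCx F' L) p i n h g f) :
      Cochain F' (G ⊗ L : DRing.Cx P) n) (zero_add n)).v a b hab).hom x
  rw [tensorHomCx_apply G F L p i n h g _ a b (a + i) hab rfl, Cochain.zero_cochain_comp_v,
    Cochain.zero_cochain_comp_v, Cochain.ofHom_v]
  show _ = ((((tensorHomCx G F' L).f n).hom (ιBil G (DRing.homCx F' L) p i n h g f) :
    Cochain F' (G ⊗ L : DRing.Cx P) n).v a b hab).hom ((s.f a).hom x)
  rw [tensorHomCx_apply G F' L p i n h g f a b (a + i) hab rfl]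
  rfl

local notation "Φr" => DTen.resCx (algebraMap P A)

/-- Restrict a Hom complex and compose with a map out of the restricted target. -/
def resHom (W : DRing.Cx A) {M : DRing.Cx A} {I : DRing.Cx P} (c : (Φr).obj M ⟶ I) :
    (Φr).obj (DRing.homCx W M) ⟶ DRing.homCx ((Φr).obj W) I where
  f i := ModuleCat.ofHom (X := ((Φr).obj (DRing.homCx W M)).X i)
    { toFun := fun z => (Cochain.mk fun a b h =>
        (ModuleCat.restrictScalars.{u} (algebraMap P A)).map ((show Cochain W M i from z).v a b h) ≫ c.f b :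
        Cochain ((Φr).obj W) I i)
      map_add' := fun z z' => Cochain.ext _ _ fun a b h => ModuleCat.hom_ext (LinearMap.ext fun x => by
        show (c.f b).hom (((show Cochain W M i from z).v a b h + (show Cochain W M i from z').v a b h).hom x) =
          (c.f b).hom (((show Cochain W M i from z).v a b h).hom x) + (c.f b).hom (((show Cochain W M i from z').v a b h).hom x)
        rw [ModuleCat.hom_add, LinearMap.add_apply]
        exact map_add (c.f b).hom _ _)
      map_smul' := fun r z => Cochain.ext _ _ fun a b h => ModuleCat.hom_ext (LinearMap.ext fun x => by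
        show (c.f b).hom ((algebraMap P A r • (show Cochain W M i from z).v a b h).hom x) =
          r • (c.f b).hom (((show Cochain W M i from z).v a b h).hom x)
        exact ((c.f b).hom.map_smul r (((show Cochain W M i from z).v a b h).hom x) :)) }
  comm' i j hij := by
    obtain rfl : i + 1 = j := hij
    refine ModuleCat.hom_ext (LinearMap.ext fun (z : Cochain W M i) => ?_)
    refine Cochain.ext _ _ fun a b h => ModuleCat.hom_ext (LinearMap.ext fun x => ?_)
    show ((δ i (i + 1) (Cochain.mk fun a b h =>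
        (ModuleCat.restrictScalars.{u} (algebraMap P A)).map (z.v a b h) ≫ c.f b : Cochain ((Φr).obj W) I i)).v a b h).hom x =
      (c.f b).hom (((δ i (i + 1) z).v a b h).hom x)
    rw [δ_v i (i + 1) rfl _ a b h (b - 1) (a + 1) rfl rfl, δ_v i (i + 1) rfl z a b h (b - 1) (a + 1) rfl rfl]
    simp only [Units.smul_def, ModuleCat.hom_add, LinearMap.add_apply, ModuleCat.hom_zsmul, LinearMap.smul_apply]
    refine Eq.trans ?_ (((map_add (c.f b).hom _ _).trans (congrArg₂ (· + ·) rfl (map_zsmul (c.f b).hom _ _))).symm)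
    congr 1
    exact congr($(c.comm (b - 1) b).hom ((z.v a (b - 1) (by omega)).hom x))

theorem resHom_apply (W : DRing.Cx A) {M : DRing.Cx A} {I : DRing.Cx P} (c : (Φr).obj M ⟶ I) (i : ℤ)
    (z : Cochain W M i) (a b : ℤ) (h : a + i = b) (x : W.X a) :
    (((((resHom W c).f i).hom z) : Cochain ((Φr).obj W) I i).v a b h).hom x = (c.f b).hom ((z.v a b h).hom x) := rfl

theorem homCxMap_resHom (W : DRing.Cx A) {M M' : DRing.Cx A} {I : DRing.Cx P} (φ : M ⟶ M') (c : (Φr).obj M' ⟶ I) :
    (Φr).map (DRing.homCxMap W φ) ≫ resHom W c = resHom W ((Φr).map φ ≫ c) := by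
  refine HomologicalComplex.hom_ext _ _ fun i => ModuleCat.hom_ext (LinearMap.ext fun (z : Cochain W M i) => ?_)
  refine Cochain.ext _ _ fun a b h => ModuleCat.hom_ext (LinearMap.ext fun x => ?_)
  show (c.f b).hom (((z.comp (Cochain.ofHom φ) (add_zero i)).v a b h).hom x) = _
  rw [Cochain.comp_zero_cochain_v, Cochain.ofHom_v]
  rfl

/-- Restriction and coextension are adjoint on Hom complexes. -/
theorem isIso_resHom_coε (W : DRing.Cx A) (I : DRing.Cx P) :
    IsIso (resHom W (coε (algebraMap P A) I)) := by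
  haveI : ∀ i, IsIso ((resHom W (coε (algebraMap P A) I)).f i) := fun i => by
    rw [ConcreteCategory.isIso_iff_bijective]
    let adj := ModuleCat.restrictCoextendScalarsAdj.{u} (algebraMap P A)
    let e : Cochain W ((coCx (algebraMap P A)).obj I) i ≃ Cochain ((Φr).obj W) I i :=
      { toFun := fun z => Cochain.mk fun a b h => (adj.homEquiv (W.X a) (I.X b)).symm (z.v a b h)
        invFun := fun z => Cochain.mk fun a b h => adj.homEquiv (W.X a) (I.X b) (z.v a b h)
        left_inv := fun z => Cochain.ext _ _ fun a b h => (adj.homEquiv (W.X a) (I.X b)).apply_symm_apply _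
        right_inv := fun z => Cochain.ext _ _ fun a b h => (adj.homEquiv (W.X a) (I.X b)).symm_apply_apply _ }
    suffices h : ⇑(ConcreteCategory.hom ((resHom W (coε (algebraMap P A) I)).f i)) = ⇑e from h ▸ e.bijective
    funext (z : Cochain W ((coCx (algebraMap P A)).obj I) i)
    refine Cochain.ext _ _ fun a b h => ?_
    exact (adj.homEquiv_counit (W.X a) (I.X b) (z.v a b h)).symm
  exact HomologicalComplex.Hom.isIso_of_components _

/-- Maps out of `Z` into a base change are maps out of `Z ⊗ W` into its coinduction, `W` being the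
coinduction of the base ring. -/
theorem exists_linearEquiv_coind {F : DRing.Cx P} (hF : Bdd FProj F) (π : F ⟶ sng 0 (resMod (P := P) A))
    (hπ : QuasiIso π) {W : DRing.Cx A} {b : ℤ} (hWb : DRing.VanishesAbove W b)
    (hWp : ∀ i, Module.Projective A (W.X i)) (hW : IsCoind (algebraMap P A) (Dual.inD P P) (DRing.toD W))
    (eW : (DRing.restrictD (algebraMap P A)).obj (DRing.toD W) ≅ DRing.toD (dualCx F))
    (h1 : Function.Bijective fun a : A => a • 𝟙 (DRing.toD W))
    (h2 : ∀ i : ℤ, i ≠ 0 → Subsingleton (DRing.toD W ⟶ (DRing.toD W)⟦i⟧))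
    {G : DRing.Cx P} (hG : DRing.IsKFlat P G) {M : Dual.D A}
    (hM : IsCoind (algebraMap P A) (DRing.toD G) M) (Z : DRing.Cx A) :
    Nonempty ((DRing.toD Z ⟶ DRing.toD ((extC P A).obj G)) ≃ₗ[A] (DRing.toD (Z ⊗ W : DRing.Cx A) ⟶ M)) := by
  have hWk : DRing.IsKFlat A W := isKFlat_of_projective hWb hWp
  haveI : W.IsKProjective := isKProjective_of_vanishesAbove hWb hWp
  have hD : Bdd FProj (dualCx F) := dualCx_bdd hF
  haveI := hD.isKProjective projClass_fProj
  haveI := hF.isKProjective projClass_fProj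
  obtain ⟨J⟩ := nonempty_kIRep (Dual.inD P P)
  haveI := J.kinj
  haveI := isKInjective_coCx (algebraMap P A) J.E
  obtain ⟨eW'⟩ := hW.unique (isCoind_coCx (algebraMap P A) J)
  obtain ⟨φW, hφWQ⟩ := exists_hom_of_kInjective eW'.hom
  have hφW : QuasiIso φW :=
    (DerivedCategory.isIso_Q_map_iff_quasiIso (φ := φW)).1 (hφWQ ▸ inferInstanceAs (IsIso eW'.hom))
  let Φ := DTen.resCx (algebraMap P A)
  let ctW : Φ.obj W ⟶ J.E := Φ.map φW ≫ coε (algebraMap P A) J.E
  obtain ⟨ι, hιQ⟩ := exists_hom_of_kInjective ((singleQZeroIso (ModuleCat.of P P)).hom ≫ J.iso.inv)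
  haveI : IsIso (DerivedCategory.Q.map ι) := hιQ ▸ inferInstance
  have hι : QuasiIso ι := (DerivedCategory.isIso_Q_map_iff_quasiIso (φ := ι)).1 inferInstance
  obtain ⟨S⟩ := nonempty_kIRep (DRing.toD G)
  haveI := S.kinj
  haveI := isIso_Q_of_qis _ (quasiIso_whiskerLeft_of_isKFlat hG ι hι)
  obtain ⟨g, hgQ⟩ := exists_hom_of_kInjective
    (inv (DerivedCategory.Q.map (G ◁ ι)) ≫ inv (DerivedCategory.Q.map (toTensorOne G)) ≫ S.iso.inv)
  haveI : IsIso (DerivedCategory.Q.map g) := hgQ ▸ inferInstance
  have hg : QuasiIso g := (DerivedCategory.isIso_Q_map_iff_quasiIso (φ := g)).1 inferInstance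
  let X : DRing.Cx A := (extC P A).obj G
  let Y : DRing.Cx A := X ⊗ W
  let J₀ : DRing.Cx A := (coCx (algebraMap P A)).obj S.E
  haveI : J₀.IsKInjective := isKInjective_coCx (algebraMap P A) S.E
  let ct : Φ.obj Y ⟶ S.E := (projCxIso (A := A) G W).hom ≫ (G ◁ ctW) ≫ g
  let φY : Y ⟶ J₀ := coη (algebraMap P A) Y ≫ (coCx (algebraMap P A)).map ct
  have hφY : Φ.map φY ≫ coε (algebraMap P A) S.E = ct := coη_coε (algebraMap P A) ct
  let v : (X ⊗ oneCx A : DRing.Cx A) ⟶ DRing.homCx W J₀ :=
    (X ◁ scalHom W) ≫ tensorHomCx X W W ≫ DRing.homCxMap W φY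
  let α : Φ.obj (oneCx A) ⟶ DRing.homCx (Φ.obj W) J.E := Φ.map (scalHom W) ≫ resHom W ctW
  haveI := isIso_resHom_coε (P := P) W J.E
  haveI := isIso_resHom_coε (P := P) W S.E
  have hα : QuasiIso α := by
    haveI := quasiIso_homCxMap W φW hφW
    haveI : QuasiIso (Φ.map (scalHom W)) :=
      (HomologicalComplex.quasiIso_map_iff_of_preservesHomology _ (ModuleCat.restrictScalars.{u} (algebraMap P A))).2
        (quasiIso_scalHom W h1 h2)
    haveI : QuasiIso (Φ.map (DRing.homCxMap W φW)) :=
      (HomologicalComplex.quasiIso_map_iff_of_preservesHomology _ (ModuleCat.restrictScalars.{u} (algebraMap P A))).2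
        inferInstance
    show QuasiIso (Φ.map (scalHom W) ≫ resHom W (Φ.map φW ≫ coε (algebraMap P A) J.E))
    rw [← homCxMap_resHom]
    infer_instance
  have hτ : QuasiIso (tensorHomCx G (Φ.obj W) J.E ≫ DRing.homCxMap (Φ.obj W) g) := by
    obtain ⟨s, hsQ⟩ := Q_map_surjective (dualCx F) (Φ.obj W)
      (eW.inv ≫ (DTen.resFactors (algebraMap P A)).hom.app W)
    haveI : IsIso (DerivedCategory.Q.map s) := hsQ ▸ inferInstance
    have hs : QuasiIso s := (DerivedCategory.isIso_Q_map_iff_quasiIso (φ := s)).1 inferInstance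
    haveI := quasiIso_homCxPre s J.E hs
    haveI := quasiIso_homCxPre s S.E hs
    haveI := quasiIso_whiskerLeft_of_isKFlat hG _ (quasiIso_homCxPre s J.E hs)
    haveI := quasiIso_tensorHomCx hG hD ι hι
    haveI := quasiIso_homCxMap (dualCx F) g hg
    rw [← quasiIso_iff_comp_right _ (homCxPre s S.E)]
    rw [Category.assoc, ← homCxPre_homCxMap, ← Category.assoc, ← tensorHomCx_pre]
    infer_instance
  have key : (projCxIso (A := A) G (oneCx A)).inv ≫ Φ.map v ≫ resHom W (coε (algebraMap P A) S.E) =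
      (G ◁ α) ≫ tensorHomCx G (Φ.obj W) J.E ≫ DRing.homCxMap (Φ.obj W) g := by
    refine HomologicalComplex.hom_ext _ _ fun n => mapBifunctor.hom_ext fun p q h =>
      ModuleCat.hom_ext (TensorProduct.ext' fun (x : G.X p) (t : (oneCx A).X q) => ?_)
    show ((resHom W (coε (algebraMap P A) S.E)).f n).hom ((v.f n).hom
        (((projCxIso (A := A) G (oneCx A)).inv.f n).hom (ιBil G (Φ.obj (oneCx A)) p q n h x t))) =
      ((DRing.homCxMap (Φ.obj W) g).f n).hom (((tensorHomCx G (Φ.obj W) J.E).f n).hom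
        (((G ◁ α).f n).hom (ιBil G (Φ.obj (oneCx A)) p q n h x t)))
    rw [projCxIso_inv_ιBil, whiskerLeft_ιBil]
    let x' : X.X p := ((1 : A) ⊗ₜ[P,algebraMap P A] x : (extF P A).obj (G.X p))
    show ((resHom W (coε (algebraMap P A) S.E)).f n).hom (((DRing.homCxMap W φY).f n).hom
        (((tensorHomCx X W W).f n).hom (((X ◁ scalHom W).f n).hom (ιBil X (oneCx A) p q n h x' t)))) = _
    rw [whiskerLeft_ιBil]
    refine Cochain.ext _ _ fun a b hab => ModuleCat.hom_ext (LinearMap.ext fun (w : W.X a) => ?_)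
    show ((coε (algebraMap P A) S.E).f b).hom ((((((tensorHomCx X W W).f n).hom
          (ιBil X (DRing.homCx W W) p q n h x' (((scalHom W).f q).hom t)) : Cochain W Y n).comp
            (Cochain.ofHom φY) (add_zero n)).v a b hab).hom w) =
      ((((((tensorHomCx G (Φ.obj W) J.E).f n).hom
          (ιBil G (DRing.homCx (Φ.obj W) J.E) p q n h x ((α.f q).hom t))) :
            Cochain (Φ.obj W) (G ⊗ J.E : DRing.Cx P) n).comp (Cochain.ofHom g) (add_zero n)).v a b hab).hom w
    rw [Cochain.comp_zero_cochain_v, Cochain.comp_zero_cochain_v, Cochain.ofHom_v, Cochain.ofHom_v]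
    show ((Φ.map φY ≫ coε (algebraMap P A) S.E).f b).hom ((((((tensorHomCx X W W).f n).hom
          (ιBil X (DRing.homCx W W) p q n h x' (((scalHom W).f q).hom t)) : Cochain W Y n)).v a b hab).hom w) =
      (g.f b).hom (((((tensorHomCx G (Φ.obj W) J.E).f n).hom
          (ιBil G (DRing.homCx (Φ.obj W) J.E) p q n h x ((α.f q).hom t)) :
            Cochain (Φ.obj W) (G ⊗ J.E : DRing.Cx P) n).v a b hab).hom w)
    rw [hφY]
    have h' : p + q = n := h
    erw [tensorHomCx_apply X W W p q n h x' _ a b (a + q) hab rfl w,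
      tensorHomCx_apply G (Φ.obj W) J.E p q n h x _ a b (a + q) hab rfl w]
    show (g.f b).hom (((G ◁ ctW).f b).hom (((projCxIso (A := A) G W).hom.f b).hom _)) = _
    erw [← projCxIso_inv_ιBil G W p (a + q) b (by omega) x]
    rw [show ∀ z, ((projCxIso (A := A) G W).hom.f b).hom (((projCxIso (A := A) G W).inv.f b).hom z) = z from
      fun z => congrArg (fun φ => (φ.f b).hom z) (projCxIso (A := A) G W).inv_hom_id]
    erw [whiskerLeft_ιBil]
    rfl
  have hv : QuasiIso v := by
    haveI := quasiIso_whiskerLeft_of_isKFlat hG _ hα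
    haveI : QuasiIso ((projCxIso (A := A) G (oneCx A)).inv ≫ Φ.map v ≫ resHom W (coε (algebraMap P A) S.E)) := by
      rw [key]
      infer_instance
    rw [quasiIso_iff_comp_left, quasiIso_iff_comp_right] at this
    exact (HomologicalComplex.quasiIso_map_iff_of_preservesHomology _
      (ModuleCat.restrictScalars.{u} (algebraMap P A))).1 this
  haveI := isIso_Q_of_qis _ hv
  let eX : DRing.toD X ≅ DRing.toD (DRing.homCx W J₀) :=
    asIso (DerivedCategory.Q.map (toTensorOne X)) ≪≫ asIso (DerivedCategory.Q.map v)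
  obtain ⟨eM⟩ := (isCoind_coCx (algebraMap P A) S).unique hM
  obtain ⟨T⟩ := exists_transpose_equiv Z W J₀ hWk
  exact ⟨((Linear.homCongr A (Iso.refl _) eX).trans T).trans (Linear.homCongr A (Iso.refl _) eM)⟩

end Groth.Agent.RelDualUniqLib
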