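import Groth.Agent.ShriekAlgLib.IsCoind
import Groth.Agent.DualCxLib.LocMain
import Groth.Agent.DRingLib.BaseChangeAdj
import Groth.Agent.DRingLib.BaseChange
import Groth.Agent.DRingLib.PseudoCoherent
import Groth.Agent.DRingLib.WeaklyEtaleAmp
import Groth.Agent.DTenLib.RingCx
import Mathlib.Algebra.Homology.DerivedCategory.SingleTriangle

/-!
# Objects without maps from a closed subscheme restrict to zero on it
-/

set_option autoImplicit false
set_option backward.isDefEq.respectTransparency false
set_option linter.style.haveILetI false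

universe u

open CategoryTheory CategoryTheory.Limits Pretriangulated
attribute [local instance] HasDerivedCategory.standard

noncomputable section

namespace Groth.Agent.RelDualUniqLib

open DRingLib DCohLib ShriekAlgLib

variable {C : Type u} [CommRing C]

/-- No maps from any shift of `X` to `D`. -/
def NoHom (X D : Dual.D C) : Prop := ∀ j : ℤ, Subsingleton (X⟦j⟧ ⟶ D)

theorem shift_map_smul (r : C) (X : Dual.D C) (j : ℤ) : (r • 𝟙 X)⟦j⟧' = r • 𝟙 (X⟦j⟧) := by
  rw [Functor.map_smul, CategoryTheory.Functor.map_id]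

theorem bijective_smul_shift {X D : Dual.D C} (r : C)
    (h : ∀ j : ℤ, Function.Bijective fun v : X⟦j⟧ ⟶ D => r • v) (j : ℤ) :
    Function.Bijective fun v : X⟦j⟧ ⟶ D⟦(1 : ℤ)⟧ => r • v := by
  let S := shiftFunctor (Dual.D C) (1 : ℤ)
  let e₁ : (X⟦j - 1⟧ ⟶ D) ≃ₗ[C] (S.obj (X⟦j - 1⟧) ⟶ S.obj D) :=
    LinearEquiv.ofBijective (Functor.mapLinearMap C S) ⟨S.map_injective, S.map_surjective⟩
  let e := e₁.trans (Linear.homCongr C ((shiftFunctorAdd' (Dual.D C) (j - 1) 1 j (by omega)).app X).symm
    (Iso.refl (D⟦(1 : ℤ)⟧)))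
  convert e.bijective.comp ((h (j - 1)).comp e.symm.bijective) using 1
  funext v
  show r • v = e (r • e.symm v)
  rw [map_smul, e.apply_symm_apply]

/-- The third vertex of a triangle on a scalar has no maps when the scalar is invertible on maps. -/
theorem noHom_cone {X D D' : Dual.D C} (r : C) (q : D' ⟶ D) (δ : D ⟶ D'⟦(1 : ℤ)⟧)
    (hT : Triangle.mk (r • 𝟙 D') q δ ∈ distTriang (Dual.D C))
    (h : ∀ j : ℤ, Function.Bijective fun v : X⟦j⟧ ⟶ D' => r • v) : NoHom X D := fun j => by
  refine subsingleton_of_forall_eq 0 fun v => ?_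
  have h0 : v ≫ δ = 0 := (bijective_smul_shift r h j).1 (by
    show r • (v ≫ δ) = r • (0 : X⟦j⟧ ⟶ D'⟦(1 : ℤ)⟧)
    have hz : δ ≫ (r • 𝟙 D')⟦(1 : ℤ)⟧' = 0 := comp_distTriang_mor_zero₃₁ _ hT
    rw [shift_map_smul, Linear.comp_smul, Category.comp_id] at hz
    rw [smul_zero, ← Linear.comp_smul, hz, comp_zero])
  obtain ⟨w, hw⟩ := Triangle.coyoneda_exact₃ _ hT v h0
  obtain ⟨w', hw'⟩ := (h j).2 w
  have hz : (r • 𝟙 D') ≫ q = 0 := comp_distTriang_mor_zero₁₂ _ hT
  rw [hw, show w = w' ≫ (r • 𝟙 D') by rw [Linear.comp_smul, Category.comp_id]; exact hw'.symm, Category.assoc]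
  exact (congrArg (w' ≫ ·) hz).trans comp_zero

/-- Restriction along a map with no maps into the target out of the cone is bijective. -/
theorem bijective_precomp {D : Dual.D C} (T : Triangle (Dual.D C)) (hT : T ∈ distTriang (Dual.D C))
    (h : NoHom T.obj₃ D) (j : ℤ) :
    Function.Bijective fun v : T.obj₂⟦j⟧ ⟶ D => T.mor₁⟦j⟧' ≫ v := by
  let f : T.obj₁⟦j⟧ ⟶ T.obj₂⟦j⟧ := j.negOnePow • T.mor₁⟦j⟧'
  have hT' := Triangle.shift_distinguished _ hT j
  suffices hb : Function.Bijective fun v : T.obj₂⟦j⟧ ⟶ D => f ≫ v by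
    have heq : (fun v : T.obj₂⟦j⟧ ⟶ D => T.mor₁⟦j⟧' ≫ v) =
        (fun w => j.negOnePow • w) ∘ fun v => f ≫ v := by
      funext v
      show _ = j.negOnePow • (f ≫ v)
      rw [show f ≫ v = j.negOnePow • (T.mor₁⟦j⟧' ≫ v) from Linear.units_smul_comp .., smul_smul,
        Int.units_mul_self, one_smul]
    rw [heq]
    refine Function.Bijective.comp ?_ hb
    exact Function.bijective_iff_has_inverse.2 ⟨fun w => j.negOnePow • w,
      fun w => by simp [smul_smul, Int.units_mul_self], fun w => by simp [smul_smul, Int.units_mul_self]⟩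
  constructor
  · intro v v' hv
    rw [← sub_eq_zero]
    obtain ⟨w, hw⟩ := Triangle.yoneda_exact₂ _ hT' (v - v') (by
      show f ≫ (v - v') = 0
      rw [Preadditive.comp_sub]
      exact sub_eq_zero.2 hv)
    exact hw.trans ((congrArg (_ ≫ ·) ((h j).elim w 0)).trans comp_zero)
  · intro u
    have hs : Subsingleton ((T.obj₃⟦j⟧)⟦(-1 : ℤ)⟧ ⟶ D) :=
      (Iso.homCongr ((shiftFunctorAdd (Dual.D C) j (-1)).app T.obj₃).symm (Iso.refl D)).subsingleton_congr.2
        (h (j + -1))
    obtain ⟨v, hv⟩ := Triangle.yoneda_exact₂ _ (inv_rot_of_distTriang _ hT') u (hs.elim _ _)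
    exact ⟨v, hv.symm⟩

theorem singleFunctor_map_smul (r : C) {M N : ModuleCat.{u} C} (g : M ⟶ N) :
    (DerivedCategory.singleFunctor (ModuleCat.{u} C) 0).map (r • g) =
      r • (DerivedCategory.singleFunctor (ModuleCat.{u} C) 0).map g := by
  let e := DerivedCategory.singleFunctorIsoCompQ (ModuleCat.{u} C) 0
  have hs : (HomologicalComplex.single (ModuleCat.{u} C) (ComplexShape.up ℤ) 0).map (r • g) =
      r • (HomologicalComplex.single (ModuleCat.{u} C) (ComplexShape.up ℤ) 0).map g :=
    HomologicalComplex.from_single_hom_ext (by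
      rw [HomologicalComplex.smul_f_apply, HomologicalComplex.single_map_f_self, HomologicalComplex.single_map_f_self]
      simp)
  rw [← cancel_mono (e.hom.app N), Linear.smul_comp, e.hom.naturality, e.hom.naturality]
  show _ ≫ DerivedCategory.Q.map ((HomologicalComplex.single (ModuleCat.{u} C) (ComplexShape.up ℤ) 0).map (r • g)) = _
  rw [hs, Functor.map_smul, Linear.comp_smul]
  rfl

/-- A scalar acts bijectively on maps out of a module whose kernel and cokernel by it have no maps. -/
theorem bijective_smul_of_noHom {D : Dual.D C} (r : C) (N : ModuleCat.{u} C)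
    (hker : NoHom (Dual.inD C (ModuleCat.of C (LinearMap.ker (r • (LinearMap.id : N →ₗ[C] N))))) D)
    (hcoker : NoHom (Dual.inD C (ModuleCat.of C (N ⧸ LinearMap.range (r • (LinearMap.id : N →ₗ[C] N))))) D)
    (j : ℤ) : Function.Bijective fun v : (Dual.inD C N)⟦j⟧ ⟶ D => r • v := by
  let ρ : N →ₗ[C] N := r • LinearMap.id
  let I := ModuleCat.of C (LinearMap.range ρ)
  let p : N ⟶ I := ModuleCat.ofHom ρ.rangeRestrict
  let i : I ⟶ N := ModuleCat.ofHom (LinearMap.range ρ).subtype
  let S₁ : ShortComplex (ModuleCat.{u} C) := ShortComplex.mk (ModuleCat.ofHom (LinearMap.ker ρ).subtype) p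
    (ModuleCat.hom_ext (LinearMap.ext fun x => Subtype.ext x.2))
  let S₂ : ShortComplex (ModuleCat.{u} C) := ShortComplex.mk i (ModuleCat.ofHom (LinearMap.range ρ).mkQ)
    (ModuleCat.hom_ext (LinearMap.ext fun x => (Submodule.Quotient.mk_eq_zero _).2 x.2))
  have h₁ : S₁.ShortExact := ShortComplex.ShortExact.mk'
    ((ShortComplex.ShortExact.moduleCat_exact_iff_function_exact S₁).2 (fun x =>
      ⟨fun hx => ⟨⟨x, congrArg Subtype.val hx⟩, rfl⟩, by rintro ⟨y, rfl⟩; exact Subtype.ext y.2⟩))
    ((ModuleCat.mono_iff_injective _).2 Subtype.val_injective)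
    ((ModuleCat.epi_iff_surjective _).2 ρ.surjective_rangeRestrict)
  have h₂ : S₂.ShortExact := ShortComplex.ShortExact.mk'
    ((ShortComplex.ShortExact.moduleCat_exact_iff_function_exact S₂).2 (fun x =>
      ⟨fun hx => ⟨⟨x, (Submodule.Quotient.mk_eq_zero _).1 hx⟩, rfl⟩,
        by rintro ⟨y, rfl⟩; exact (Submodule.Quotient.mk_eq_zero _).2 y.2⟩))
    ((ModuleCat.mono_iff_injective _).2 Subtype.val_injective)
    ((ModuleCat.epi_iff_surjective _).2 (Submodule.mkQ_surjective _))
  let F := DerivedCategory.singleFunctor (ModuleCat.{u} C) 0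
  have b₂ := bijective_precomp _ h₂.singleTriangle_distinguished hcoker j
  have b₁ := bijective_precomp _ (rot_of_distTriang _ h₁.singleTriangle_distinguished) (D := D)
    (fun k => (Iso.homCongr ((shiftFunctorAdd' (Dual.D C) (1 : ℤ) k (1 + k) rfl).app (Dual.inD C _)).symm
      (Iso.refl D)).subsingleton_congr.2 (hker (1 + k))) j
  have hpi : F.map p ≫ F.map i = r • 𝟙 (Dual.inD C N) := by
    rw [← Functor.map_comp, show p ≫ i = r • 𝟙 N from rfl, singleFunctor_map_smul, CategoryTheory.Functor.map_id]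
  convert b₁.comp b₂ using 1
  funext v
  show r • v = (F.map p)⟦j⟧' ≫ (F.map i)⟦j⟧' ≫ v
  rw [← Category.assoc, ← Functor.map_comp, hpi, shift_map_smul, Linear.smul_comp, Category.id_comp]

variable {A : Type u} [CommRing A] (f : C →+* A)

/-- An object without maps from the closed subscheme is killed by base change to it. -/
theorem isZero_lbc_of_noHom [DRing.HasLBaseChange f] (hf : Function.Surjective f) (hfg : (RingHom.ker f).FG)
    (D : Dual.D C) (h : ∀ Y : Dual.D A, Subsingleton ((DRing.restrictD f).obj Y ⟶ D)) :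
    IsZero ((DRing.LBaseChange f).obj D) := by
  suffices key : ∀ l : List C, (∀ r ∈ l, f r = 0) → ∃ D' : Dual.D C,
      ((∀ Y : Dual.D A, Subsingleton (D' ⟶ (DRing.restrictD f).obj Y)) →
        ∀ Y : Dual.D A, Subsingleton (D ⟶ (DRing.restrictD f).obj Y)) ∧
      ∀ (N : ModuleCat.{u} C) (J : Ideal C), RingHom.ker f ≤ J ⊔ Ideal.ofList l →
        (∀ x ∈ J, ∀ m : N, x • m = 0) → NoHom (Dual.inD C N) D' by
    obtain ⟨s, hs⟩ := hfg
    have hl : Ideal.ofList s.toList = RingHom.ker f := by
      rw [← hs]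
      unfold Ideal.ofList
      congr 1
      ext x
      simp
    obtain ⟨D', h1, h2⟩ := key s.toList fun r hr => RingHom.mem_ker.1 (hl ▸ Ideal.subset_span hr)
    have h2' := h2 (ModuleCat.of C C) ⊥ (by rw [bot_sup_eq, hl]) fun x hx m => by
      rw [Ideal.mem_bot.1 hx, zero_smul]
    have hD' : IsZero D' := DTenLib.isZero_of_forall_eq_zero D' fun n v => by
      let e : (DTen.unit C)⟦n⟧ ≅ (Dual.inD C (ModuleCat.of C C))⟦n⟧ :=
        (shiftFunctor (Dual.D C) n).mapIso (singleQZeroIso (ModuleCat.of C C))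
      haveI := h2' n
      rw [← cancel_epi e.inv, Subsingleton.elim (e.inv ≫ v) 0, comp_zero]
    have h3 := h1 fun Y => ⟨fun a b => hD'.eq_of_src a b⟩
    rw [IsZero.iff_id_eq_zero]
    haveI := h3 ((DRing.LBaseChange f).obj D)
    exact ((lbcAdj f).homEquiv _ _).injective (Subsingleton.elim _ _)
  intro l
  induction l with
  | nil =>
    intro _
    refine ⟨D, fun h' => h', fun N J hJ hN j => ?_⟩
    letI : Module A N :=
      { smul := fun a m => Function.surjInv hf a • m
        one_smul := fun m => by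
          show Function.surjInv hf 1 • m = m
          have hx : Function.surjInv hf 1 - 1 ∈ J :=
            by simpa using hJ (RingHom.mem_ker.2 (by rw [map_sub, Function.surjInv_eq hf, map_one, sub_self]))
          conv_rhs => rw [← one_smul C m]
          rw [← sub_eq_zero, ← sub_smul]
          exact hN _ hx m
        mul_smul := fun a b m => by
          show Function.surjInv hf (a * b) • m = Function.surjInv hf a • Function.surjInv hf b • m
          rw [smul_smul, ← sub_eq_zero, ← sub_smul]
          refine hN _ ?_ m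
          simpa using hJ (RingHom.mem_ker.2 (by simp [Function.surjInv_eq hf]))
        smul_zero := fun a => smul_zero _
        smul_add := fun a => smul_add _
        add_smul := fun a b m => by
          show Function.surjInv hf (a + b) • m = Function.surjInv hf a • m + Function.surjInv hf b • m
          rw [← add_smul, ← sub_eq_zero, ← sub_smul]
          refine hN _ ?_ m
          simpa using hJ (RingHom.mem_ker.2 (by simp [Function.surjInv_eq hf]))
        zero_smul := fun m => by
          show Function.surjInv hf 0 • m = 0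
          exact hN _ (by simpa using hJ (RingHom.mem_ker.2 (Function.surjInv_eq hf 0))) m }
    let ι : (ModuleCat.restrictScalars.{u} f).obj (ModuleCat.of A N) ≅ N := LinearEquiv.toModuleIso
      (X₁ := (ModuleCat.restrictScalars.{u} f).obj (ModuleCat.of A N)) (X₂ := N)
      { toFun := fun m => m
        invFun := fun m => m
        map_add' := fun _ _ => rfl
        map_smul' := fun c m => by
          show Function.surjInv hf (f c) • (show N from m) = c • (show N from m)
          rw [← sub_eq_zero, ← sub_smul]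
          refine hN _ ?_ m
          simpa using hJ (RingHom.mem_ker.2 (by simp [Function.surjInv_eq hf])) }
    obtain ⟨r⟩ := nonempty_restrictD_inD f (ModuleCat.of A N)
    let e : (Dual.inD C N)⟦j⟧ ≅ (DRing.restrictD f).obj ((Dual.inD A (ModuleCat.of A N))⟦j⟧) :=
      (shiftFunctor (Dual.D C) j).mapIso (((DerivedCategory.singleFunctor (ModuleCat.{u} C) 0).mapIso ι).symm ≪≫ r.symm) ≪≫
        (((DRing.restrictD f).commShiftIso j).app _).symm
    exact (Iso.homCongr e (Iso.refl D)).subsingleton_congr.2 (h _)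
  | cons r l ih =>
    intro hl
    obtain ⟨D₁, h1, h2⟩ := ih fun x hx => hl x (List.mem_cons_of_mem _ hx)
    obtain ⟨D', q, δ, hT⟩ := distinguished_cocone_triangle (r • 𝟙 D₁)
    refine ⟨D', fun h' => h1 fun Y => subsingleton_of_forall_eq 0 fun v => ?_, fun N J hJ hN => ?_⟩
    · have hv : (r • 𝟙 D₁) ≫ v = 0 := by
        have h0 := DualCxLib.restrictD_map_smul_id f r Y
        rw [hl r List.mem_cons_self, zero_smul, Functor.map_zero] at h0
        rw [Linear.smul_comp, Category.id_comp,
          show r • v = v ≫ (r • 𝟙 ((DRing.restrictD f).obj Y)) by rw [Linear.comp_smul, Category.comp_id],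
          ← h0, comp_zero]
      obtain ⟨w, hw⟩ := Triangle.yoneda_exact₂ _ hT v hv
      exact hw.trans ((congrArg (q ≫ ·) ((h' Y).elim w 0)).trans comp_zero)
    · refine noHom_cone r q δ hT (bijective_smul_of_noHom r N (h2 _ (J ⊔ Ideal.span {r}) ?_ ?_)
        (h2 _ (J ⊔ Ideal.span {r}) ?_ ?_))
      · rwa [Ideal.ofList_cons, ← sup_assoc] at hJ
      · intro x hx m
        obtain ⟨a, ha, b, hb, rfl⟩ := Submodule.mem_sup.1 hx
        obtain ⟨c, rfl⟩ := Ideal.mem_span_singleton'.1 hb
        refine Subtype.ext ?_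
        show (a + c * r) • (m : N) = 0
        rw [add_smul, hN a ha, mul_smul, show r • (m : N) = 0 from m.2, smul_zero, add_zero]
      · rwa [Ideal.ofList_cons, ← sup_assoc] at hJ
      · intro x hx m
        obtain ⟨m, rfl⟩ := Submodule.mkQ_surjective _ m
        rw [← map_smul]
        obtain ⟨a, ha, b, hb, rfl⟩ := Submodule.mem_sup.1 hx
        obtain ⟨c, rfl⟩ := Ideal.mem_span_singleton'.1 hb
        refine (Submodule.Quotient.mk_eq_zero _).2 ⟨c • m, ?_⟩
        show r • c • m = (a + c * r) • m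
        rw [add_smul, hN a ha, zero_add, smul_smul, mul_comm]

end Groth.Agent.RelDualUniqLib
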