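import Groth.Agent.RelDualUniqLib.Perfect
import Groth.Agent.RelDualUniqLib.Pairing
import Groth.Agent.RelDualUniqLib.Vanish
import Groth.Agent.ShriekAlgLib.Poly
import Groth.Agent.DTenLib.Mix

/-!
# The dual of the algebra corepresents the relative dualizing condition
-/

set_option autoImplicit false
set_option backward.isDefEq.respectTransparency false
set_option linter.style.haveILetI false
set_option maxHeartbeats 1000000

universe u

open CategoryTheory CategoryTheory.Limits MonoidalCategory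
open scoped TensorProduct
attribute [local instance] HasDerivedCategory.standard

noncomputable section

namespace Groth.Agent.RelDualUniqLib

open DRingLib DCohLib ShriekAlgLib

/-- A linear identification of maps out of restrictions, transported to the coinduced objects. -/
theorem exists_linEquiv_of_coind {C A : Type u} [CommRing C] [CommRing A] (f : C →+* A) (hf : Function.Surjective f)
    {K K' : Dual.D C} {L L' X X' : Dual.D A} (h : IsCoind f K L) (h' : IsCoind f K' L')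
    (T : ((DRing.restrictD f).obj X ⟶ K) ≃ₗ[C] ((DRing.restrictD f).obj X' ⟶ K')) :
    Nonempty ((X ⟶ L) ≃ₗ[A] (X' ⟶ L')) := by
  obtain ⟨ε, hε⟩ := h
  obtain ⟨ε', hε'⟩ := h'
  let e := ((Equiv.ofBijective _ (hε X)).trans T.toEquiv).trans (Equiv.ofBijective _ (hε' X')).symm
  have he : ∀ g, (DRing.restrictD f).map (e g) ≫ ε' = T ((DRing.restrictD f).map g ≫ ε) := fun g =>
    (Equiv.ofBijective _ (hε' X')).apply_symm_apply _
  refine ⟨{ e with map_add' := fun g g' => (hε' X').1 ?_, map_smul' := fun a g => (hε' X').1 ?_ }⟩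
  · show (DRing.restrictD f).map (e (g + g')) ≫ ε' = (DRing.restrictD f).map (e g + e g') ≫ ε'
    rw [he, Functor.map_add, Preadditive.add_comp, map_add, Functor.map_add, Preadditive.add_comp, he, he]
  · obtain ⟨c, rfl⟩ := hf a
    show (DRing.restrictD f).map (e (f c • g)) ≫ ε' = (DRing.restrictD f).map (f c • e g) ≫ ε'
    rw [he, DualCxLib.restrictD_map_smul, Linear.smul_comp, map_smul, DualCxLib.restrictD_map_smul,
      Linear.smul_comp, he]

/-- Base change along the identity. -/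
theorem nonempty_lbc_id {A : Type u} [CommRing A] (f : A →+* A) (hf : f = RingHom.id A) [DRing.HasLBaseChange f]
    (K : Dual.D A) : Nonempty ((DRing.LBaseChange f).obj K ≅ K) := by
  subst hf
  obtain ⟨e⟩ := nonempty_lbc_of_bijective (RingHom.id A) (RingHom.id A) rfl rfl K
  exact ⟨e ≪≫ (resDId (RingHom.id A) rfl).app K⟩

/-- A restricted ring tensored with a complex is the restricted base change. -/
theorem nonempty_res_tensor_iso {P A : Type u} [CommRing P] [CommRing A] [Algebra P A] {W : DRing.Cx P}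
    (hW : DRing.IsKFlat P W) [DRing.HasLBaseChange (algebraMap P A)] :
    Nonempty (DRing.toD (((DTen.resCx (algebraMap P A)).obj (oneCx A)) ⊗ W : DRing.Cx P) ≅
      (DRing.restrictD (algebraMap P A)).obj ((DRing.LBaseChange (algebraMap P A)).obj (DRing.toD W))) :=
  ⟨DerivedCategory.Q.mapIso (DTen.braidCx _ W) ≪≫ DerivedCategory.Q.mapIso (projCxIso W (oneCx A)).symm ≪≫
    DerivedCategory.Q.mapIso ((DTen.resCx (algebraMap P A)).mapIso (asIso (toTensorOne _)).symm) ≪≫
    ((DTen.resFactors (algebraMap P A)).app _).symm ≪≫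
    (DRing.restrictD (algebraMap P A)).mapIso (lbcIso (algebraMap P A) W hW).symm⟩

/-- The data on a presentation obtained by base change. -/
theorem exists_dual_data_baseChange (R R' P P' A A' : Type u) [CommRing R] [CommRing R'] [CommRing P] [CommRing P']
    [CommRing A] [CommRing A'] [Algebra P P'] [Algebra P A] [Algebra A A'] [Algebra P' A'] [Algebra P A']
    [IsScalarTower P P' A'] [IsScalarTower P A A'] [Algebra.IsPushout P P' A A'] [Algebra R R'] [Algebra R P]
    [Algebra R' P'] [Algebra R P'] [IsScalarTower R R' P'] [IsScalarTower R P P'] [Algebra.IsPushout R R' P P']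
    [Algebra R A] [IsScalarTower R P A] [Module.Flat R P] [Module.Flat R A]
    [DRing.HasLBaseChange (algebraMap A A')]
    (hs' : Function.Surjective (algebraMap P' A'))
    {F : DRing.Cx P} (hF : ∀ i, FProj (F.X i)) {a : ℤ} (hb : DRing.VanishesOutside F a 0)
    (π : F ⟶ sng 0 (resMod (P := P) A)) (hπ : QuasiIso π)
    (eF : DRing.toD F ≅ (DRing.restrictD (algebraMap P A)).obj (Dual.inD A A))
    {E : DRing.Cx A} {b : ℤ} (hEb : DRing.VanishesAbove E b) (hEp : ∀ i, Module.Projective A (E.X i))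
    (hW : IsCoind (algebraMap P A) (Dual.inD P P) (DRing.toD E)) :
    ∃ (F' : DRing.Cx P') (π' : F' ⟶ sng 0 (resMod (P := P') A')) (W : DRing.Cx A'),
      Bdd FProj F' ∧ QuasiIso π' ∧ DRing.VanishesAbove W b ∧ (∀ i, Module.Projective A' (W.X i)) ∧
      IsCoind (algebraMap P' A') (Dual.inD P' P') (DRing.toD W) ∧
      Nonempty ((DRing.restrictD (algebraMap P' A')).obj (DRing.toD W) ≅ DRing.toD (dualCx F')) ∧
      Function.Bijective (fun a : A' => a • 𝟙 (DRing.toD W)) ∧
      (∀ i : ℤ, i ≠ 0 → Subsingleton (DRing.toD W ⟶ (DRing.toD W)⟦i⟧)) ∧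
      Nonempty (DRing.toD W ≅ (DRing.LBaseChange (algebraMap A A')).obj (DRing.toD E)) := by
  obtain ⟨F', π', hb', hF', hπ'⟩ := exists_resolution_baseChange R R' P P' A A' hF hb π hπ
  have hc := isCoind_baseChange P P' A A' R R' (F := F) ⟨⟨a, 0, hb⟩, hF⟩ eF hEb hEp (Iso.refl _) hW
  let eW := (lbcIso (algebraMap A A') E (isKFlat_of_projective hEb hEp)).symm
  have hW' := hc.of_iso (Iso.refl _) eW.symm
  haveI := isIso_Q_of_qis _ hπ'
  obtain ⟨r⟩ := nonempty_restrictD_inD (algebraMap P' A') (ModuleCat.of A' A')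
  let eF' : DRing.toD F' ≅ (DRing.restrictD (algebraMap P' A')).obj (Dual.inD A' A') :=
    asIso (DerivedCategory.Q.map π') ≪≫ singleQZeroIso (resMod (P := P') A') ≪≫ r.symm
  haveI : (Dual.inD P' P').IsGE 0 :=
    inferInstanceAs (((DerivedCategory.singleFunctor (ModuleCat.{u} P') 0).obj _).IsGE 0)
  obtain ⟨eD⟩ := nonempty_res_coind A' 0 hW' (Iso.refl _) ⟨⟨a, 0, hb'⟩, hF'⟩ eF'
  obtain ⟨h1, h2⟩ := end_coind hs' hW' ⟨⟨a, 0, hb'⟩, hF'⟩ (fun i hi => hb' i (Or.inr hi)) eF' eD
  exact ⟨F', π', (DTen.extCx (algebraMap A A')).obj E, ⟨⟨a, 0, hb'⟩, hF'⟩, hπ',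
    fun i hi => isZero_extCx_X (algebraMap A A') (hEb i hi),
    fun i => by
      haveI := hEp i
      exact Module.Projective.of_equiv (extendScalarsTensorEquiv A A' (E.X i)).symm,
    hW', ⟨eD⟩, h1, h2, ⟨eW.symm.symm⟩⟩

attribute [local instance] MvPolynomial.algebraMvPolynomial Algebra.TensorProduct.rightAlgebra

/-- The data on the presentation of a base changed algebra. -/
theorem exists_dual_data (R R' A : Type u) [CommRing R] [CommRing R'] [CommRing A] [Algebra R R'] [Algebra R A]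
    [Module.Flat R A] (n : ℕ) [Algebra (MvPolynomial (Fin n) R) A] [IsScalarTower R (MvPolynomial (Fin n) R) A]
    (hs : Function.Surjective (algebraMap (MvPolynomial (Fin n) R) A))
    {F : DRing.Cx (MvPolynomial (Fin n) R)} (hF : ∀ i, FProj (F.X i)) {a : ℤ} (hb : DRing.VanishesOutside F a 0)
    (π : F ⟶ sng 0 (resMod (P := MvPolynomial (Fin n) R) A)) (hπ : QuasiIso π)
    (eF : DRing.toD F ≅ (DRing.restrictD (algebraMap (MvPolynomial (Fin n) R) A)).obj (Dual.inD A A))
    {E : DRing.Cx A} {b : ℤ} (hEb : DRing.VanishesAbove E b) (hEp : ∀ i, Module.Projective A (E.X i))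
    (hW : IsCoind (algebraMap (MvPolynomial (Fin n) R) A) (Dual.inD (MvPolynomial (Fin n) R) (MvPolynomial (Fin n) R))
      (DRing.toD E)) [DRing.HasLBaseChange (Algebra.TensorProduct.includeRight.toRingHom : A →+* R' ⊗[R] A)] :
    ∃ φ : MvPolynomial (Fin n) R' →+* R' ⊗[R] A,
      (∀ r : R', φ (MvPolynomial.C r) = r ⊗ₜ[R] (1 : A)) ∧
      (∀ i, φ (MvPolynomial.X i) = (1 : R') ⊗ₜ[R] algebraMap (MvPolynomial (Fin n) R) A (MvPolynomial.X i)) ∧
      Function.Surjective φ ∧
      letI := φ.toAlgebra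
      ∃ (F' : DRing.Cx (MvPolynomial (Fin n) R'))
        (π' : F' ⟶ sng 0 (resMod (P := MvPolynomial (Fin n) R') (R' ⊗[R] A))) (W : DRing.Cx (R' ⊗[R] A)),
        Bdd FProj F' ∧ QuasiIso π' ∧ DRing.VanishesAbove W b ∧ (∀ i, Module.Projective (R' ⊗[R] A) (W.X i)) ∧
        IsCoind φ (Dual.inD (MvPolynomial (Fin n) R') (MvPolynomial (Fin n) R')) (DRing.toD W) ∧
        Nonempty ((DRing.restrictD φ).obj (DRing.toD W) ≅ DRing.toD (dualCx F')) ∧
        Function.Bijective (fun a : R' ⊗[R] A => a • 𝟙 (DRing.toD W)) ∧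
        (∀ i : ℤ, i ≠ 0 → Subsingleton (DRing.toD W ⟶ (DRing.toD W)⟦i⟧)) ∧
        Nonempty (DRing.toD W ≅
          (DRing.LBaseChange (Algebra.TensorProduct.includeRight.toRingHom : A →+* R' ⊗[R] A)).obj (DRing.toD E)) := by
  let P := MvPolynomial (Fin n) R
  let P' := MvPolynomial (Fin n) R'
  let A' := R' ⊗[R] A
  let ψ'' : P' →ₐ[R'] A' := MvPolynomial.aeval fun i => (1 : R') ⊗ₜ[R] algebraMap P A (MvPolynomial.X i)
  letI algP'A' : Algebra P' A' := ψ''.toRingHom.toAlgebra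
  letI : Algebra P A' := ((algebraMap A A').comp (algebraMap P A)).toAlgebra
  haveI : IsScalarTower P A A' := .of_algebraMap_eq fun _ => rfl
  haveI : IsScalarTower R' P' A' := .of_algebraMap_eq fun r => (ψ''.commutes r).symm
  haveI : IsScalarTower R P A' := .of_algebraMap_eq fun r => by
    rw [IsScalarTower.algebraMap_apply R A A', IsScalarTower.algebraMap_apply R P A]
    rfl
  haveI : IsScalarTower P P' A' := .of_algebraMap_eq fun p => by
    refine RingHom.congr_fun (f := algebraMap P A') (g := ψ''.toRingHom.comp (algebraMap P P')) ?_ p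
    refine MvPolynomial.ringHom_ext (fun r => ?_) fun i => ?_
    · show algebraMap P A' (algebraMap R P r) = ψ'' (MvPolynomial.map (algebraMap R R') (MvPolynomial.C r))
      rw [← IsScalarTower.algebraMap_apply R P A', MvPolynomial.map_C, IsScalarTower.algebraMap_apply R R' A']
      exact (ψ''.commutes _).symm
    · show algebraMap A A' (algebraMap P A (MvPolynomial.X i)) = ψ'' (MvPolynomial.map (algebraMap R R') (MvPolynomial.X i))
      rw [MvPolynomial.map_X, MvPolynomial.aeval_X]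
      rfl
  haveI : IsScalarTower R P' A' := .of_algebraMap_eq fun r => by
    rw [IsScalarTower.algebraMap_apply R R' A', IsScalarTower.algebraMap_apply R R' P',
      ← IsScalarTower.algebraMap_apply R' P' A']
  haveI hPA : Algebra.IsPushout P A P' A' :=
    (Algebra.IsPushout.comp_iff R P R' (S' := P') (T := A) (T' := A')).1 inferInstance
  haveI : Algebra.IsPushout P P' A A' := hPA.symm
  have hs' : Function.Surjective ψ'' := by
    intro x
    induction x using TensorProduct.induction_on with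
    | zero => exact ⟨0, map_zero ψ''⟩
    | tmul r a =>
      obtain ⟨p, rfl⟩ := hs a
      refine ⟨algebraMap R' P' r * algebraMap P P' p, ?_⟩
      rw [map_mul, show ψ'' (algebraMap P P' p) = algebraMap P A' p from
        (IsScalarTower.algebraMap_apply P P' A' p).symm, ψ''.commutes]
      show (r ⊗ₜ[R] (1 : A)) * ((1 : R') ⊗ₜ[R] algebraMap P A p) = r ⊗ₜ[R] algebraMap P A p
      rw [Algebra.TensorProduct.tmul_mul_tmul, mul_one, one_mul]
    | add x y hx hy =>
      obtain ⟨p, rfl⟩ := hx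
      obtain ⟨q, rfl⟩ := hy
      exact ⟨p + q, map_add ψ'' p q⟩
  haveI : DRing.HasLBaseChange (algebraMap A A') :=
    ‹DRing.HasLBaseChange (Algebra.TensorProduct.includeRight.toRingHom : A →+* R' ⊗[R] A)›
  haveI : Module.Flat R P := inferInstance
  refine ⟨ψ''.toRingHom, fun r => ψ''.commutes r, fun i => MvPolynomial.aeval_X _ i, hs', ?_⟩
  exact exists_dual_data_baseChange R R' P P' A A' hs' hF hb π hπ eF hEb hEp hW

/-- The shifted coinduction of the polynomial ring is an object of which the relative dualizing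
condition is the dual. -/
theorem dual_of_coind (R A : Type u) [CommRing R] [CommRing A] [Algebra R A] [Module.Flat R A]
    [Algebra.FinitePresentation R A]
    [DRing.HasLBaseChange (Algebra.TensorProduct.includeLeftRingHom : A →+* A ⊗[R] A)]
    (Rμ : Dual.D (A ⊗[R] A) ⥤ Dual.D A)
    (adjμ : DRing.restrictD (Algebra.TensorProduct.lmul' R (S := A)).toRingHom ⊣ Rμ)
    (n : ℕ) (ψ : MvPolynomial (Fin n) R →ₐ[R] A) (hψ : Function.Surjective ψ) (W₀ : Dual.D A)
    (hW₀ : IsCoind ψ.toRingHom (Dual.inD (MvPolynomial (Fin n) R) (MvPolynomial (Fin n) R)) W₀) :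
    Function.Bijective (fun a : A => a • 𝟙 (W₀⟦(n : ℤ)⟧)) ∧
      (∀ i : ℤ, i ≠ 0 → Subsingleton (W₀⟦(n : ℤ)⟧ ⟶ (W₀⟦(n : ℤ)⟧)⟦i⟧)) ∧
      ∀ X : Dual.D A, Nonempty ((Dual.inD A A ⟶ Rμ.obj
        ((DRing.LBaseChange (Algebra.TensorProduct.includeLeftRingHom : A →+* A ⊗[R] A)).obj X)) ≃ₗ[A]
          (W₀⟦(n : ℤ)⟧ ⟶ X)) := by
  let P := MvPolynomial (Fin n) R
  letI : Algebra P A := ψ.toRingHom.toAlgebra
  haveI : IsScalarTower R P A := .of_algebraMap_eq fun r => (ψ.commutes r).symm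
  obtain ⟨F, π, hb, hF, hπ⟩ := exists_resolution R A n hψ
  have hFB : Bdd FProj F := ⟨⟨-(n : ℤ), 0, hb⟩, hF⟩
  haveI := isIso_Q_of_qis _ hπ
  obtain ⟨r⟩ := nonempty_restrictD_inD (algebraMap P A) (ModuleCat.of A A)
  let eF : DRing.toD F ≅ (DRing.restrictD (algebraMap P A)).obj (Dual.inD A A) :=
    asIso (DerivedCategory.Q.map π) ≪≫ singleQZeroIso (resMod (P := P) A) ≪≫ r.symm
  haveI : (Dual.inD P P).IsGE 0 :=
    inferInstanceAs (((DerivedCategory.singleFunctor (ModuleCat.{u} P) 0).obj _).IsGE 0)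
  haveI : (Dual.inD P P).IsLE 0 :=
    inferInstanceAs (((DerivedCategory.singleFunctor (ModuleCat.{u} P) 0).obj _).IsLE 0)
  obtain ⟨eD₀⟩ := nonempty_res_coind A 0 hW₀ (Iso.refl _) hFB eF
  obtain ⟨h1, h2⟩ := end_coind hψ hW₀ hFB (fun i hi => hb i (Or.inr hi)) eF eD₀
  obtain ⟨b, hbW⟩ := exists_upper_bound_coind (Dual.inD P P) (algebraMap P A) hW₀ 0 ⟨F, hFB, ⟨eF⟩⟩
  have hA₀ : AboveZero (b + 1) W₀ := fun i hi => by
    haveI := hbW i (by omega)
    exact ModuleCat.isZero_of_subsingleton _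
  obtain ⟨E, hEb, hEp, ⟨eE⟩⟩ := exists_proj_representative hA₀
  let V := W₀⟦(n : ℤ)⟧
  refine ⟨?_, ?_, fun X => ?_⟩
  · convert Function.Bijective.comp
      (⟨Functor.map_injective (shiftFunctor (Dual.D A) (n : ℤ)), Functor.map_surjective _⟩ :
        Function.Bijective fun g : W₀ ⟶ W₀ => g⟦(n : ℤ)⟧') h1 using 1
    funext a
    show a • 𝟙 (W₀⟦(n : ℤ)⟧) = (a • 𝟙 W₀)⟦(n : ℤ)⟧'
    rw [shift_map_smul]
  · intro i hi
    haveI := h2 i hi
    refine subsingleton_of_forall_eq 0 fun (g : W₀⟦(n : ℤ)⟧ ⟶ W₀⟦(n : ℤ)⟧⟦i⟧) => ?_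
    obtain ⟨q, hq⟩ := (shiftFunctor (Dual.D A) (n : ℤ)).map_surjective
      (g ≫ ((shiftFunctorComm (Dual.D A) (n : ℤ) i).app W₀).hom)
    rw [Subsingleton.elim q 0, Functor.map_zero] at hq
    exact (cancel_mono ((shiftFunctorComm (Dual.D A) (n : ℤ) i).app W₀).hom).1 (hq.symm.trans zero_comp.symm)
  let T := A ⊗[R] A
  let right : A →+* T := (Algebra.TensorProduct.includeRight (R := R) (A := A) (B := A)).toRingHom
  haveI : DRing.HasLBaseChange (Algebra.TensorProduct.includeRight.toRingHom : A →+* A ⊗[R] A) :=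
    DRingLib.hasLBaseChange _
  obtain ⟨φ, hφC, hφX, hφs, F', π', W, hF', hπ', hWb, hWp, hW, ⟨eD⟩, k1, k2, ⟨eW⟩⟩ :=
    exists_dual_data R A A n hψ hF hb π hπ eF hEb hEp (hW₀.of_iso (Iso.refl _) eE.symm)
  let B := MvPolynomial (Fin n) A
  let iC : A →+* B := MvPolynomial.C
  haveI : DRing.HasLBaseChange iC := DRingLib.hasLBaseChange _
  haveI : DRing.HasLBaseChange φ := DRingLib.hasLBaseChange _
  let G₀ := DTenLib.repr₀ X
  let G := (DTen.extCx iC).obj G₀
  have hG₀ : DRing.IsKFlat A G₀ := DTenLib.isKFlat_repr₀ X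
  have hG : DRing.IsKFlat B G := DTenLib.isKFlat_extCx _ hG₀
  let eY : DRing.toD G ≅ (DRing.LBaseChange iC).obj X :=
    (lbcIso iC G₀ hG₀).symm ≪≫ (DRing.LBaseChange iC).mapIso (DTenLib.reprIso₀ X)
  have hcomp : φ.comp iC = (Algebra.TensorProduct.includeLeftRingHom : A →+* T) := RingHom.ext hφC
  obtain ⟨e₁⟩ := nonempty_lbc_comp' iC φ (Algebra.TensorProduct.includeLeftRingHom : A →+* T) hcomp X
  let X₁ := (DRing.LBaseChange (Algebra.TensorProduct.includeLeftRingHom : A →+* T)).obj X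
  let eX₁ : DRing.toD ((DTen.extCx φ).obj G) ≅ X₁ :=
    (lbcIso φ G hG).symm ≪≫ (DRing.LBaseChange φ).mapIso eY ≪≫ e₁
  obtain ⟨M, hM⟩ := exists_isCoind φ (DRing.toD G)
  let μ := (Algebra.TensorProduct.lmul' R (S := A)).toRingHom
  have hμs : Function.Surjective μ := fun a =>
    ⟨a ⊗ₜ[R] 1, (Algebra.TensorProduct.lmul'_apply_tmul (R := R) a (1 : A)).trans (mul_one a)⟩
  -- the composite down to the diagonal
  let c : Fin n → A := fun i => ψ (MvPolynomial.X i)
  have hθ : MvPolynomial.eval c = μ.comp φ := by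
    refine MvPolynomial.ringHom_ext (fun a => ?_) fun i => ?_
    · rw [MvPolynomial.eval_C]
      show a = μ (φ (MvPolynomial.C a))
      rw [hφC]
      exact ((Algebra.TensorProduct.lmul'_apply_tmul (R := R) a (1 : A)).trans (mul_one a)).symm
    · rw [MvPolynomial.eval_X]
      show c i = μ (φ (MvPolynomial.X i))
      rw [hφX]
      exact ((Algebra.TensorProduct.lmul'_apply_tmul (R := R) (1 : A) _).trans (one_mul _)).symm
  obtain ⟨eM⟩ := (IsCoind.comp hθ hM (isCoind_of_adj adjμ M)).unique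
    ((isCoind_aeval n c X).of_iso eY.symm (Iso.refl _))
  have hcoind : IsCoind μ M (X⟦(-n : ℤ)⟧) := (isCoind_of_adj adjμ M).of_iso (Iso.refl _) eM
  -- the two restrictions
  let Z := (DTen.resCx μ).obj (oneCx A)
  let eZ : DRing.toD Z ≅ (DRing.restrictD μ).obj (Dual.inD A A) :=
    ((DTen.resFactors μ).app (oneCx A)).symm ≪≫ (DRing.restrictD μ).mapIso (singleQZeroIso (ModuleCat.of A A))
  have hWk : DRing.IsKFlat T W := isKFlat_of_projective hWb hWp
  haveI : DRing.HasLBaseChange μ := DRingLib.hasLBaseChange _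
  haveI : DRing.HasLBaseChange (μ.comp right) := DRingLib.hasLBaseChange _
  obtain ⟨eZW⟩ : Nonempty (DRing.toD (Z ⊗ W : DRing.Cx T) ≅ (DRing.restrictD μ).obj W₀) := by
    obtain ⟨a⟩ := @nonempty_res_tensor_iso T A _ _ μ.toAlgebra W hWk (DRingLib.hasLBaseChange _)
    obtain ⟨a'⟩ := nonempty_lbc_comp' right μ (μ.comp right) rfl (DRing.toD E)
    obtain ⟨a''⟩ := nonempty_lbc_id (μ.comp right)
      (RingHom.ext fun x => (Algebra.TensorProduct.lmul'_apply_tmul (R := R) (1 : A) x).trans (one_mul x)) (DRing.toD E)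
    exact ⟨a ≪≫ (DRing.restrictD μ).mapIso ((DRing.LBaseChange μ).mapIso eW ≪≫ a' ≪≫ a'' ≪≫ eE)⟩
  obtain ⟨Tr⟩ := @exists_linearEquiv_coind B T _ _ φ.toAlgebra F' hF' π' hπ' W b hWb hWp hW eD k1 k2 G hG M hM Z
  obtain ⟨Ψ⟩ := exists_linEquiv_of_coind μ hμs (isCoind_of_adj adjμ X₁) hcoind
    (((Linear.homCongr T eZ eX₁).symm.trans Tr).trans (Linear.homCongr T eZW (Iso.refl M)))
  let S := shiftFunctor (Dual.D A) (n : ℤ)
  let sh : (W₀ ⟶ X⟦(-n : ℤ)⟧) ≃ₗ[A] (S.obj W₀ ⟶ S.obj (X⟦(-n : ℤ)⟧)) :=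
    LinearEquiv.ofBijective (Functor.mapLinearMap A S) ⟨S.map_injective, S.map_surjective⟩
  exact ⟨(Ψ.trans sh).trans (Linear.homCongr A (Iso.refl V)
    ((shiftFunctorCompIsoId (Dual.D A) (-n : ℤ) (n : ℤ) (neg_add_cancel _)).app X))⟩

/-- There is an object of which the relative dualizing condition is the dual. -/
theorem exists_dual (R A : Type u) [CommRing R] [CommRing A] [Algebra R A] [Module.Flat R A]
    [Algebra.FinitePresentation R A]
    [DRing.HasLBaseChange (Algebra.TensorProduct.includeLeftRingHom : A →+* A ⊗[R] A)]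
    (Rμ : Dual.D (A ⊗[R] A) ⥤ Dual.D A)
    (adjμ : DRing.restrictD (Algebra.TensorProduct.lmul' R (S := A)).toRingHom ⊣ Rμ) :
    ∃ V : Dual.D A, Function.Bijective (fun a : A => a • 𝟙 V) ∧
      (∀ i : ℤ, i ≠ 0 → Subsingleton (V ⟶ V⟦i⟧)) ∧
      ∀ X : Dual.D A, Nonempty ((Dual.inD A A ⟶ Rμ.obj
        ((DRing.LBaseChange (Algebra.TensorProduct.includeLeftRingHom : A →+* A ⊗[R] A)).obj X)) ≃ₗ[A] (V ⟶ X)) := by
  obtain ⟨n, ψ, hψ, -⟩ := Algebra.FinitePresentation.out (R := R) (A := A)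
  obtain ⟨W₀, hW₀⟩ := exists_isCoind ψ.toRingHom (Dual.inD (MvPolynomial (Fin n) R) (MvPolynomial (Fin n) R))
  exact ⟨_, dual_of_coind R A Rμ adjμ n ψ hψ W₀ hW₀⟩

end Groth.Agent.RelDualUniqLib
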