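import Groth.Agent.ShriekAlgLib.Range
import Groth.Agent.ShriekAlgLib.CoindBC
import Groth.Agent.FppfSrc.FlatModel

/-!
# A flat finitely presented algebra has a finite resolution over a presentation, over any base ring
-/

set_option autoImplicit false
set_option backward.isDefEq.respectTransparency false
set_option linter.style.haveILetI false

universe u

open CategoryTheory CategoryTheory.Limits
open scoped TensorProduct
attribute [local instance] HasDerivedCategory.standard

noncomputable section

namespace Groth.Agent.RelDualUniqLib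

open DRingLib DCohLib ShriekAlgLib

/-- A surjection with extended kernel is a pushout of a quotient map. -/
theorem isPushout_quotient (P0 P A : Type u) [CommRing P0] [CommRing P] [CommRing A] [Algebra P0 P] [Algebra P A]
    [Algebra P0 A] [IsScalarTower P0 P A] (I : Ideal P0) [Algebra (P0 ⧸ I) A] [IsScalarTower P0 (P0 ⧸ I) A]
    (hs : Function.Surjective (algebraMap P A))
    (hker : RingHom.ker (algebraMap P A) = I.map (algebraMap P0 P)) :
    Algebra.IsPushout P0 P (P0 ⧸ I) A := by
  refine ⟨IsBaseChange.of_equiv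
    ((Algebra.TensorProduct.tensorQuotientEquiv (R := P0) P P0 P I).trans
      ((Ideal.quotientEquivAlg _ (RingHom.ker (Algebra.ofId P A)) (Algebra.TensorProduct.rid P0 P P) (by
        show RingHom.ker (algebraMap P A) = _
        rw [hker]
        refine Eq.trans ?_ (Ideal.map_map _ _).symm
        congr 1
        refine RingHom.ext fun x => ?_
        show algebraMap P0 P x = Algebra.TensorProduct.rid P0 P P ((1 : P) ⊗ₜ[P0] x)
        rw [Algebra.TensorProduct.rid_tmul, Algebra.smul_def, mul_one])).trans
      (Ideal.quotientKerAlgEquivOfSurjective (f := Algebra.ofId P A) hs))).toLinearEquiv fun x => ?_⟩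
  obtain ⟨y, rfl⟩ := Ideal.Quotient.mk_surjective x
  show _ = algebraMap (P0 ⧸ I) A (algebraMap P0 (P0 ⧸ I) y)
  rw [← IsScalarTower.algebraMap_apply, IsScalarTower.algebraMap_apply P0 P A]
  simp [Algebra.smul_def]
  rw [IsScalarTower.algebraMap_apply P0 P (P ⧸ RingHom.ker (Algebra.ofId P A))]
  exact (Ideal.quotientKerAlgEquivOfSurjective hs).commutes _

/-- A presentation of a flat finitely presented algebra descends to a finitely generated subring. -/
theorem exists_model_presentation (R A : Type u) [CommRing R] [CommRing A] [Algebra R A] [Module.Flat R A]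
    [Algebra.FinitePresentation R A] (n : ℕ) (ψ : MvPolynomial (Fin n) R →ₐ[R] A) (hψ : Function.Surjective ψ) :
    ∃ (S : Type u) (_ : CommRing S) (_ : Algebra S R) (I : Ideal (MvPolynomial (Fin n) S)), IsNoetherianRing S ∧
      Module.Flat S (MvPolynomial (Fin n) S ⧸ I) ∧
      RingHom.ker ψ.toRingHom = I.map (MvPolynomial.map (algebraMap S R)) := by
  classical
  obtain ⟨G, hG⟩ := Algebra.FinitePresentation.ker_fG_of_surjective ψ hψ
  let S : Subalgebra ℤ R := Algebra.adjoin ℤ
    ((G.biUnion fun g => g.support.image fun m => MvPolynomial.coeff m g : Finset R) : Set R)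
  have hS : S.FG := Subalgebra.fg_adjoin_finset _
  choose g0 hg0 using fun g : G => FppfSrc.exists_map_eq' S (g : MvPolynomial (Fin n) R) fun m =>
    show MvPolynomial.coeff m (g : MvPolynomial (Fin n) R) ∈ S by
    by_cases hm : MvPolynomial.coeff m (g : MvPolynomial (Fin n) R) = 0
    · rw [hm]; exact S.zero_mem
    · exact Algebra.subset_adjoin (Finset.mem_biUnion.mpr
        ⟨g, g.2, Finset.mem_image_of_mem _ (MvPolynomial.mem_support_iff.mpr hm)⟩)
  let I0 : Ideal (MvPolynomial (Fin n) S) := Ideal.span (Set.range g0)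
  have hker : RingHom.ker ψ.toRingHom = I0.map (MvPolynomial.map (algebraMap S R)) := by
    rw [← hG, Ideal.map_span, ← Set.range_comp]
    congr 1
    ext z
    exact ⟨fun hz => ⟨⟨z, hz⟩, hg0 _⟩, by rintro ⟨g, rfl⟩; simp only [Function.comp_apply, hg0]; exact g.2⟩
  let e2 : (MvPolynomial (Fin n) R ⧸ I0.map (MvPolynomial.map (algebraMap S R))) ≃ₐ[R] A :=
    (Ideal.quotientEquivAlgOfEq R hker.symm).trans (Ideal.quotientKerAlgEquivOfSurjective hψ)
  haveI : Module.Flat R (MvPolynomial (Fin n) R ⧸ I0.map (MvPolynomial.map (algebraMap S R))) :=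
    Module.Flat.of_linearEquiv e2.toLinearEquiv
  haveI := FppfSrc.flat_locN_of_flat_map I0 R
  obtain ⟨S', hle, hS', hflat⟩ := FppfSrc.exists_flat_enlarge S hS (FppfSrc.idealN I0)
  letI : Algebra S S' := (Subalgebra.inclusion hle).toRingHom.toAlgebra
  refine ⟨↥S', inferInstance, inferInstance, I0.map (MvPolynomial.map (algebraMap S S')), isNoetherianRing_of_fg hS',
    FppfSrc.flat_map_of_flatSet I0 S' hflat, ?_⟩
  rw [hker, Ideal.map_map]
  congr 1
  refine MvPolynomial.ringHom_ext (fun r => ?_) fun i => ?_
  · simp only [RingHom.comp_apply, MvPolynomial.map_C]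
    rfl
  · simp

theorem flat_resCx_X {R P : Type u} [CommRing R] [CommRing P] [Algebra R P] (G : DRing.Cx P) (i : ℤ)
    [Module.Flat R P] (hG : Module.Projective P (G.X i)) :
    Module.Flat R (((DTen.resCx (algebraMap R P)).obj G).X i) := by
  letI : Module R (G.X i) := Module.compHom _ (algebraMap R P)
  haveI : IsScalarTower R P (G.X i) := .of_algebraMap_smul fun _ _ => rfl
  exact (Module.Flat.trans R P (G.X i) :)

/-- Base change of a resolution by a flat algebra. -/
theorem exists_resolution_baseChange (R R' P P' A A' : Type u) [CommRing R] [CommRing R'] [CommRing P] [CommRing P']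
    [CommRing A] [CommRing A'] [Algebra P P'] [Algebra P A] [Algebra A A'] [Algebra P' A'] [Algebra P A']
    [IsScalarTower P P' A'] [IsScalarTower P A A'] [Algebra.IsPushout P P' A A'] [Algebra R R'] [Algebra R P]
    [Algebra R' P'] [Algebra R P'] [IsScalarTower R R' P'] [IsScalarTower R P P'] [Algebra.IsPushout R R' P P']
    [Algebra R A] [IsScalarTower R P A] [Module.Flat R P] [Module.Flat R A]
    {F : DRing.Cx P} (hF : ∀ i, FProj (F.X i)) {a b : ℤ} (hb : DRing.VanishesOutside F a b)
    (π : F ⟶ sng 0 (resMod (P := P) A)) (hπ : QuasiIso π) :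
    ∃ (F' : DRing.Cx P') (π' : F' ⟶ sng 0 (resMod (P := P') A')),
      DRing.VanishesOutside F' a b ∧ (∀ i, FProj (F'.X i)) ∧ QuasiIso π' := by
  refine ⟨(extC P P').obj F, piBC P P' A A' π, fun i hi => (extF P P').map_isZero (hb i hi),
    fun i => fProj_extend _ (hF i), ?_⟩
  haveI := quasiIso_extC_map_of_flat R R' P P' π hπ (fun i (hi : b < i) => hb i (Or.inr hi))
    (fun i (hi : (0 : ℤ) < i) => isZero_sng 0 _ (by omega)) (fun i => flat_resCx_X F i (hF i).2) fun i => by
      by_cases hi : i = 0
      · subst hi
        exact Module.Flat.of_linearEquiv (M := A)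
          (((ModuleCat.restrictScalars.{u} (algebraMap R P)).mapIso
            (HomologicalComplex.singleObjXSelf (ComplexShape.up ℤ) 0 (resMod (P := P) A))).toLinearEquiv.trans
            { toFun := fun x => x
              invFun := fun x => x
              map_add' := fun _ _ => rfl
              map_smul' := fun t x => by
                show algebraMap P A (algebraMap R P t) * (show A from x) = t • (show A from x)
                rw [← IsScalarTower.algebraMap_apply, Algebra.smul_def] })
      · haveI : Subsingleton (((DTen.resCx (algebraMap R P)).obj (sng 0 (resMod (P := P) A))).X i) :=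
          ModuleCat.subsingleton_of_isZero ((ModuleCat.restrictScalars.{u} (algebraMap R P)).map_isZero
            (isZero_sng 0 (resMod (P := P) A) hi))
        exact Module.Flat.of_linearEquiv
          (M := PUnit.{u + 1}) (N := ((DTen.resCx (algebraMap R P)).obj (sng 0 (resMod (P := P) A))).X i) 0
  exact inferInstanceAs (QuasiIso (_ ≫ _ ≫ _))

/-- A flat finitely presented algebra has a resolution of length `n` over a presentation in `n` variables. -/
theorem exists_resolution (R A : Type u) [CommRing R] [CommRing A] [Algebra R A] [Module.Flat R A]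
    [Algebra.FinitePresentation R A] (n : ℕ) [Algebra (MvPolynomial (Fin n) R) A]
    [IsScalarTower R (MvPolynomial (Fin n) R) A]
    (hs : Function.Surjective (algebraMap (MvPolynomial (Fin n) R) A)) :
    ∃ (F : DRing.Cx (MvPolynomial (Fin n) R)) (π : F ⟶ sng 0 (resMod (P := MvPolynomial (Fin n) R) A)),
      DRing.VanishesOutside F (-(n : ℤ)) 0 ∧ (∀ i, FProj (F.X i)) ∧ QuasiIso π := by
  let P := MvPolynomial (Fin n) R
  obtain ⟨S, iS, iSR, I, hS, hfl, hker⟩ := exists_model_presentation R A n (IsScalarTower.toAlgHom R P A) hs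
  haveI := hS
  haveI := hfl
  let P0 := MvPolynomial (Fin n) S
  let A0 := P0 ⧸ I
  haveI : Module.Finite P0 A0 := inferInstance
  obtain ⟨hp, hamp⟩ := perfect_amp_presentation S A0 n
  obtain ⟨F, hFb, hF, ⟨eF⟩⟩ := exists_fProj_of_amplitude (m := -(n : ℤ)) (n := 0) (by omega)
    ((isPseudoCoherent'_iff _).1 ((perf_iff _).1 ((isPerfect_iff _).1 hp)).1 _)
    (hasTorAmplitudeIn_mono (by omega) le_rfl hamp)
  have hFB : Bdd FProj F := ⟨⟨-(n : ℤ), 0, hFb⟩, hF⟩
  haveI := hFB.isKProjective projClass_fProj
  obtain ⟨r⟩ := nonempty_restrictD_inD (algebraMap P0 A0) (ModuleCat.of A0 A0)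
  let ι0 : resMod (P := P0) A0 ≅ ModuleCat.of P0 A0 := LinearEquiv.toModuleIso
    (X₁ := resMod (P := P0) A0) (X₂ := ModuleCat.of P0 A0)
    { toFun := fun x => x
      invFun := fun x => x
      map_add' := fun _ _ => rfl
      map_smul' := fun p x => algebraMap_smul A0 p (show A0 from x) }
  obtain ⟨π, hπQ⟩ := Q_map_surjective F (sng 0 (resMod (P := P0) A0))
    (eF ≪≫ ((DerivedCategory.singleFunctor (ModuleCat.{u} P0) 0).mapIso ι0).symm ≪≫
      (singleQZeroIso (resMod (P := P0) A0)).symm).hom
  haveI : IsIso (DerivedCategory.Q.map π) := hπQ ▸ inferInstance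
  have hπ : QuasiIso π := (DerivedCategory.isIso_Q_map_iff_quasiIso (φ := π)).1 inferInstance
  let φ : P0 →+* P := MvPolynomial.map (algebraMap S R)
  letI : Algebra P0 P := φ.toAlgebra
  let g : A0 →+* A := Ideal.Quotient.lift I ((algebraMap P A).comp φ) fun x hx => RingHom.mem_ker.1 (by
    rw [← RingHom.comap_ker]
    show φ x ∈ RingHom.ker (IsScalarTower.toAlgHom R P A).toRingHom
    rw [hker]
    exact Ideal.mem_map_of_mem _ hx)
  letI : Algebra A0 A := g.toAlgebra
  letI : Algebra P0 A := ((algebraMap P A).comp φ).toAlgebra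
  haveI : IsScalarTower P0 P A := .of_algebraMap_eq fun _ => rfl
  haveI : IsScalarTower P0 A0 A := IsScalarTower.of_algebraMap_eq (R := P0) (S := A0) (A := A) fun x => rfl
  haveI : IsScalarTower S P0 P := .of_algebraMap_eq fun s => by
    rw [IsScalarTower.algebraMap_apply S R P]
    exact (MvPolynomial.map_C (algebraMap S R) s).symm
  haveI : Algebra.IsPushout P0 P A0 A := isPushout_quotient P0 P A I hs (by
    show RingHom.ker (IsScalarTower.toAlgHom R P A).toRingHom = _
    rw [hker]
    rfl)
  haveI : Algebra.IsPushout S R P0 P := inferInstance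
  exact exists_resolution_baseChange S R P0 P A0 A hF hFb π hπ

end Groth.Agent.RelDualUniqLib
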