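import Groth.Agent.ShriekAlgLib.Projection
import Groth.Agent.ShriekAlgLib.EndSelf
import Groth.Agent.DRingLib.HomCxInj

/-!
# Maps into Hom complexes out of a coinduced complex
-/

set_option autoImplicit false
set_option backward.isDefEq.respectTransparency false
set_option linter.style.haveILetI false

universe u

open CategoryTheory CategoryTheory.Limits MonoidalCategory CochainComplex CochainComplex.HomComplex
  HomologicalComplex
open scoped TensorProduct ChangeOfRings
attribute [local instance] HasDerivedCategory.standard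

noncomputable section

namespace Groth.Agent.RelDualUniqLib

open DRingLib DCohLib ShriekAlgLib

variable {A : Type u} [CommRing A]

section Classes

variable {Z J : DRing.Cx A}

theorem exists_hom_of_kInjective [J.IsKInjective] (f : DRing.toD Z ⟶ DRing.toD J) :
    ∃ a : Z ⟶ J, DerivedCategory.Q.map a = f := by
  obtain ⟨b, hb⟩ := (CochainComplex.IsKInjective.Qh_map_bijective
    ((HomotopyCategory.quotient (ModuleCat.{u} A) (ComplexShape.up ℤ)).obj Z) J).2 f
  obtain ⟨a, rfl⟩ := (HomotopyCategory.quotient _ _).map_surjective b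
  exact ⟨a, hb⟩

theorem Q_map_eq_zero_iff [J.IsKInjective] (a : Z ⟶ J) :
    DerivedCategory.Q.map a = 0 ↔ ∃ w : Cochain Z J (-1), Cochain.ofHom a = δ (-1) 0 w := by
  constructor
  · intro h
    have h0 : (HomotopyCategory.quotient (ModuleCat.{u} A) (ComplexShape.up ℤ)).map a = 0 :=
      (CochainComplex.IsKInjective.Qh_map_bijective
        ((HomotopyCategory.quotient (ModuleCat.{u} A) (ComplexShape.up ℤ)).obj Z) J).1
        (h.trans (Functor.map_zero _ _ _).symm)
    obtain ⟨β, hβ⟩ := Cochain.equivHomotopy a 0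
      (HomotopyCategory.homotopyOfEq _ _ (h0.trans (Functor.map_zero _ _ _).symm))
    exact ⟨β, by rwa [Cochain.ofHom_zero, add_zero] at hβ⟩
  · rintro ⟨w, hw⟩
    exact (DerivedCategory.Q_map_eq_of_homotopy (C := ModuleCat.{u} A)
      ((Cochain.equivHomotopy a 0).symm ⟨w, by rw [Cochain.ofHom_zero, add_zero, hw]⟩)).trans (Functor.map_zero _ _ _)

end Classes

/-- The Hom-tensor adjunction for morphisms. -/
def transposeLin (Z W J : DRing.Cx A) : (Z ⟶ DRing.homCx W J) →ₗ[A] ((Z ⊗ W : DRing.Cx A) ⟶ J) where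
  toFun a := Cocycle.homOf (Cocycle.mk (homTensorEquiv 0 (Cochain.ofHom a)) 1 rfl
    (by rw [homTensorEquiv_δ 0 1 rfl, δ_ofHom, map_zero]))
  map_add' a b := HomologicalComplex.hom_ext _ _ fun p => by
    show ((homTensorEquiv 0 (Cochain.ofHom (a + b)) : Cochain (Z ⊗ W : DRing.Cx A) J 0)).v p p _ = _
    rw [Cochain.ofHom_add, map_add]
    exact Cochain.add_v _ _ _ _ _
  map_smul' r a := HomologicalComplex.hom_ext _ _ fun p => by
    show ((homTensorEquiv 0 (Cochain.ofHom (r • a)) : Cochain (Z ⊗ W : DRing.Cx A) J 0)).v p p _ = _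
    rw [show Cochain.ofHom (r • a) = r • Cochain.ofHom a from Cochain.ext₀ _ _ fun q => by simp, map_smul]
    exact Cochain.smul_v _ _ _ _ _

theorem ofHom_transposeLin {Z W J : DRing.Cx A} (a : Z ⟶ DRing.homCx W J) :
    Cochain.ofHom (transposeLin Z W J a) = homTensorEquiv 0 (Cochain.ofHom a) :=
  Cocycle.cochain_ofHom_homOf_eq_coe _

theorem surjective_transposeLin (Z W J : DRing.Cx A) : Function.Surjective (transposeLin Z W J) := fun b => by
  refine ⟨Cocycle.homOf (Cocycle.mk ((homTensorEquiv 0).symm (Cochain.ofHom b)) 1 rfl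
    (by rw [homTensorEquiv_δ_symm 0 1 rfl, δ_ofHom, map_zero])), ?_⟩
  refine (Cochain.ofHom_injective (F := Z ⊗ W) (G := J) ?_ :)
  rw [ofHom_transposeLin, Cocycle.cochain_ofHom_homOf_eq_coe]
  exact (homTensorEquiv 0).apply_symm_apply _

/-- The Hom-tensor adjunction in the derived category, for a K-injective target. -/
theorem exists_transpose_equiv (Z W J : DRing.Cx A) (hW : DRing.IsKFlat A W) [J.IsKInjective] :
    Nonempty ((DRing.toD Z ⟶ DRing.toD (DRing.homCx W J)) ≃ₗ[A] (DRing.toD (Z ⊗ W : DRing.Cx A) ⟶ DRing.toD J)) := by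
  haveI := isKInjective_homCx W J hW
  let f₁ : (Z ⟶ DRing.homCx W J) →ₗ[A] (DRing.toD Z ⟶ DRing.toD (DRing.homCx W J)) :=
    Functor.mapLinearMap A DerivedCategory.Q
  let f₂ : (Z ⟶ DRing.homCx W J) →ₗ[A] (DRing.toD (Z ⊗ W : DRing.Cx A) ⟶ DRing.toD J) :=
    (Functor.mapLinearMap A DerivedCategory.Q).comp (transposeLin Z W J)
  have h₁ : Function.Surjective f₁ := fun f => exists_hom_of_kInjective f
  have h₂ : Function.Surjective f₂ := fun f => by
    obtain ⟨b, hb⟩ := exists_hom_of_kInjective f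
    obtain ⟨a, rfl⟩ := surjective_transposeLin Z W J b
    exact ⟨a, hb⟩
  have hk : LinearMap.ker f₁ = LinearMap.ker f₂ := by
    ext a
    rw [LinearMap.mem_ker, LinearMap.mem_ker]
    show DerivedCategory.Q.map a = 0 ↔ DerivedCategory.Q.map (transposeLin Z W J a) = 0
    rw [Q_map_eq_zero_iff, Q_map_eq_zero_iff, ofHom_transposeLin]
    constructor
    · rintro ⟨w, hw⟩
      exact ⟨homTensorEquiv (-1) w, by rw [homTensorEquiv_δ (-1) 0 rfl, ← hw]⟩
    · rintro ⟨w, hw⟩
      refine ⟨(homTensorEquiv (-1)).symm w, ?_⟩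
      rw [homTensorEquiv_δ_symm (-1) 0 rfl, ← hw, LinearEquiv.symm_apply_apply]
  exact ⟨(f₁.quotKerEquivOfSurjective h₁).symm.trans
    ((Submodule.quotEquivOfEq _ _ hk).trans (f₂.quotKerEquivOfSurjective h₂))⟩

/-- The scalars as a map into the endomorphism complex. -/
def scalHom (W : DRing.Cx A) : oneCx A ⟶ DRing.homCx W W :=
  HomologicalComplex.mkHomFromSingle
    (ModuleCat.ofHom (LinearMap.toSpanSingleton A (Cochain W W 0) (Cochain.ofHom (𝟙 W))))
    fun j hj => by
      obtain rfl : (0 : ℤ) + 1 = j := hj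
      refine ModuleCat.hom_ext (LinearMap.ext_ring ?_)
      show δ 0 (0 + 1) ((1 : A) • Cochain.ofHom (𝟙 W)) = 0
      rw [one_smul, δ_ofHom]

theorem scalHom_f_zero (W : DRing.Cx A) (t : (oneCx A).X 0) :
    ((scalHom W).f 0).hom t = (oneCoord t • Cochain.ofHom (𝟙 W) : Cochain W W 0) := by
  simp [scalHom, oneCoord]
  rfl

theorem quasiIso_scalHom (W : DRing.Cx A) [W.IsKProjective]
    (h1 : Function.Bijective fun a : A => a • 𝟙 (DRing.toD W))
    (h2 : ∀ i : ℤ, i ≠ 0 → Subsingleton (DRing.toD W ⟶ (DRing.toD W)⟦i⟧)) :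
    QuasiIso (scalHom W) := by
  have key : ∀ i : ℤ, i ≠ 0 → (DRing.homCx W W).ExactAt i := fun i hi => by
    haveI := h2 i hi
    have hs : Subsingleton (DRing.toD W ⟶ DRing.toD (W⟦i⟧)) :=
      (Iso.homCongr (Iso.refl (DRing.toD W)) ((DerivedCategory.Q.commShiftIso i).app W)).subsingleton_congr.2 (h2 i hi)
    haveI : Subsingleton ((HomotopyCategory.quotient (ModuleCat.{u} A) (ComplexShape.up ℤ)).obj W ⟶
        (HomotopyCategory.quotient (ModuleCat.{u} A) (ComplexShape.up ℤ)).obj (W⟦i⟧)) :=
      ⟨fun x y => (Q_quotient_bijective (D := W) (Y := W⟦i⟧)).1 (hs.elim _ _)⟩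
    haveI : Subsingleton (CohomologyClass W W i) :=
      (CohomologyClass.toHom_bijective W W i).1.subsingleton
    rw [HomologicalComplex.exactAt_iff' _ (i - 1) i (i + 1) (by simp) (by simp), ShortComplex.moduleCat_exact_iff]
    intro (z : Cochain W W i) hz
    obtain ⟨m, hm, β, hβ⟩ := (CohomologyClass.mk_eq_zero_iff (Cocycle.mk z (i + 1) rfl hz)).1
      (Subsingleton.elim _ _)
    obtain rfl : m = i - 1 := by omega
    exact ⟨β, hβ⟩
  refine ⟨fun i => ?_⟩
  by_cases hi : i = 0
  · subst hi
    rw [quasiIsoAt_iff_isIso_homologyMap, ConcreteCategory.isIso_iff_bijective]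
    have hcyc : ∀ z : (oneCx A).cycles 0,
        ((DRing.homCx W W).iCycles 0).hom ((HomologicalComplex.cyclesMap (scalHom W) 0).hom z) =
          ((scalHom W).f 0).hom (((oneCx A).iCycles 0).hom z) := fun z =>
      congr($(HomologicalComplex.cyclesMap_i (scalHom W) 0).hom z)
    have hπ : ∀ (K : DRing.Cx A) (z : K.cycles 0), (K.homologyπ 0).hom z = 0 ↔
        ∃ y : K.X (-1), (K.d (-1) 0).hom y = (K.iCycles 0).hom z := fun K z => by
      have hex : (ShortComplex.mk (K.toCycles (-1) 0) (K.homologyπ 0) (K.toCycles_comp_homologyπ (-1) 0)).Exact :=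
        ShortComplex.exact_of_g_is_cokernel _ (K.homologyIsCokernel (-1) 0 (by simp))
      rw [ShortComplex.moduleCat_exact_iff] at hex
      constructor
      · intro h
        obtain ⟨y, hy⟩ := hex z h
        exact ⟨y, by rw [← hy]; exact (congr($(K.toCycles_i (-1) 0).hom y)).symm⟩
      · rintro ⟨y, hy⟩
        have : z = (K.toCycles (-1) 0).hom y := by
          refine (ModuleCat.mono_iff_injective (K.iCycles 0)).1 inferInstance ?_
          exact hy.symm.trans (congr($(K.toCycles_i (-1) 0).hom y)).symm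
        rw [this]
        exact congr($(K.toCycles_comp_homologyπ (-1) 0).hom y)
    constructor
    · rw [injective_iff_map_eq_zero]
      intro x hx
      obtain ⟨z, rfl⟩ := (ModuleCat.epi_iff_surjective ((oneCx A).homologyπ 0)).1 inferInstance x
      have hx' : ((DRing.homCx W W).homologyπ 0).hom ((HomologicalComplex.cyclesMap (scalHom W) 0).hom z) = 0 :=
        (congr($(HomologicalComplex.homologyπ_naturality (scalHom W) 0).hom z)).symm.trans hx
      obtain ⟨(β : Cochain W W (-1)), hβ⟩ := (hπ _ _).1 hx'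
      rw [hcyc, scalHom_f_zero] at hβ
      let t := ((oneCx A).iCycles 0).hom z
      have h0 : oneCoord t • 𝟙 (DRing.toD W) = 0 := by
        rw [← CategoryTheory.Functor.map_id DerivedCategory.Q W, ← Functor.map_smul]
        refine (DerivedCategory.Q_map_eq_of_homotopy (C := ModuleCat.{u} A)
          ((Cochain.equivHomotopy (oneCoord t • 𝟙 W) 0).symm ⟨β, ?_⟩)).trans (Functor.map_zero _ _ _)
        rw [Cochain.ofHom_zero, add_zero, show δ (-1) 0 β = oneCoord t • Cochain.ofHom (𝟙 W) from hβ]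
        exact Cochain.ext₀ _ _ fun q => by simp
      have ht : t = 0 := by
        rw [← oneCoord_smul t, h1.1 (h0.trans (zero_smul A _).symm), zero_smul]
      rw [(ModuleCat.mono_iff_injective ((oneCx A).iCycles 0)).1 inferInstance (ht.trans (map_zero _).symm), map_zero]
    · intro y
      obtain ⟨z, rfl⟩ := (ModuleCat.epi_iff_surjective ((DRing.homCx W W).homologyπ 0)).1 inferInstance y
      let c : Cochain W W 0 := ((DRing.homCx W W).iCycles 0).hom z
      have hc : δ 0 1 c = 0 := congr($((DRing.homCx W W).iCycles_d 0 1).hom z)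
      let f : W ⟶ W := Cocycle.homOf (Cocycle.mk c 1 rfl hc)
      obtain ⟨a, ha⟩ := h1.2 (DerivedCategory.Q.map f)
      have ha' : (HomotopyCategory.quotient (ModuleCat.{u} A) (ComplexShape.up ℤ)).map (a • 𝟙 W) =
          (HomotopyCategory.quotient (ModuleCat.{u} A) (ComplexShape.up ℤ)).map f :=
        (Q_quotient_bijective (D := W) (Y := W)).1 (by
          show DerivedCategory.Q.map (a • 𝟙 W) = DerivedCategory.Q.map f
          rw [Functor.map_smul, CategoryTheory.Functor.map_id]
          exact ha)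
      obtain ⟨β, hβ⟩ := Cochain.equivHomotopy _ _ (HomotopyCategory.homotopyOfEq _ _ ha')
      obtain ⟨u', hu⟩ : ∃ u' : (oneCx A).cycles 0, ((oneCx A).iCycles 0).hom u' = a • oneGen := by
        haveI : IsIso ((oneCx A).iCycles 0) := (oneCx A).isIso_iCycles 0 1 (by simp)
          (by simp [HomologicalComplex.single_obj_d])
        exact ((ConcreteCategory.bijective_of_isIso ((oneCx A).iCycles 0)).2 (a • oneGen))
      refine ⟨((oneCx A).homologyπ 0).hom u', sub_eq_zero.1 ?_⟩
      rw [show (HomologicalComplex.homologyMap (scalHom W) 0).hom (((oneCx A).homologyπ 0).hom u') =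
        ((DRing.homCx W W).homologyπ 0).hom ((HomologicalComplex.cyclesMap (scalHom W) 0).hom u') from
        congr($(HomologicalComplex.homologyπ_naturality (scalHom W) 0).hom u'), ← map_sub]
      refine (hπ _ _).2 ⟨β, ?_⟩
      rw [map_sub, hcyc, scalHom_f_zero, hu, map_smul, oneCoord_gen, smul_eq_mul, mul_one]
      show δ (-1) 0 β = a • Cochain.ofHom (𝟙 W) - c
      rw [show a • Cochain.ofHom (𝟙 W) = Cochain.ofHom (a • 𝟙 W) from Cochain.ext₀ _ _ fun q => by simp, hβ,
        Cocycle.cochain_ofHom_homOf_eq_coe]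
      exact (add_sub_cancel_right _ _).symm
  · rw [quasiIsoAt_iff_exactAt _ _ (HomologicalComplex.ExactAt.of_isZero (isZero_sng 0 _ hi))]
    exact key i hi

end Groth.Agent.RelDualUniqLib
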