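import Groth.Agent.RelDualUniqLib.Main
import Groth.Agent.DualCxLib.Crit

/-!
# Relative dualizing complexes are unique and have the base as endomorphisms
-/

set_option autoImplicit false
set_option backward.isDefEq.respectTransparency false
set_option linter.style.haveILetI false

universe u

open CategoryTheory CategoryTheory.Limits Pretriangulated
open scoped TensorProduct
attribute [local instance] HasDerivedCategory.standard

noncomputable section

namespace Groth.Agent.RelDualUniqLib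

open DRingLib DCohLib ShriekAlgLib

theorem subsingleton_inD_shift_hom {A : Type u} [CommRing A] (i : ℤ) (hi : i ≠ 0) :
    Subsingleton (Dual.inD A A ⟶ (Dual.inD A A)⟦i⟧) := by
  haveI : (Dual.inD A A).IsLE 0 :=
    inferInstanceAs (((DerivedCategory.singleFunctor (ModuleCat.{u} A) 0).obj _).IsLE 0)
  haveI : (Dual.inD A A).IsGE 0 :=
    inferInstanceAs (((DerivedCategory.singleFunctor (ModuleCat.{u} A) 0).obj _).IsGE 0)
  rcases lt_or_gt_of_ne hi with h | h
  · haveI : ((Dual.inD A A)⟦i⟧).IsGE (-i) :=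
      DerivedCategory.TStructure.t.isGE_shift (Dual.inD A A) 0 i (-i) (by omega)
    exact subsingleton_of_forall_eq 0 fun f =>
      DerivedCategory.TStructure.t.zero f 0 (-i) (by omega)
  · haveI : ((Dual.inD A A)⟦i⟧).IsLE (-i) :=
      DerivedCategory.TStructure.t.isLE_shift (Dual.inD A A) 0 i (-i) (by omega)
    haveI : ((Dual.inD A A)⟦i⟧).IsLE (-1) := DerivedCategory.TStructure.t.isLE_of_le _ (-i) (-1) (by omega)
    exact DualCxLib.subsingleton_unit_hom _

theorem bijective_smul_id_inD {A : Type u} [CommRing A] :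
    Function.Bijective fun a : A => a • 𝟙 (Dual.inD A A) := by
  let F := DerivedCategory.singleFunctor (ModuleCat.{u} A) 0
  convert ((Functor.FullyFaithful.ofFullyFaithful F).map_bijective (ModuleCat.of A A) (ModuleCat.of A A)).comp
    (show Function.Bijective fun a : A => a • 𝟙 (ModuleCat.of A A) from ?_) using 1
  · funext a
    show a • 𝟙 (F.obj (ModuleCat.of A A)) = F.map (a • 𝟙 (ModuleCat.of A A))
    rw [singleFunctor_map_smul, CategoryTheory.Functor.map_id]
  · refine ⟨fun a b h => ?_, fun f => ⟨f.hom (1 : A), ModuleCat.hom_ext (LinearMap.ext_ring (mul_one _))⟩⟩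
    have h1 := congr($(h).hom (1 : A))
    simpa using h1

variable (R A : Type u) [CommRing R] [CommRing A] [Algebra R A] [Module.Flat R A]
  [Algebra.FinitePresentation R A]
  [DRing.HasLBaseChange (Algebra.TensorProduct.includeLeftRingHom : A →+* A ⊗[R] A)]
  (Rμ : Dual.D (A ⊗[R] A) ⥤ Dual.D A)
  (adjμ : DRing.restrictD (Algebra.TensorProduct.lmul' R (S := A)).toRingHom ⊣ Rμ)

local notation "L₁" => DRing.LBaseChange (Algebra.TensorProduct.includeLeftRingHom : A →+* A ⊗[R] A)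

include adjμ in
/-- Coinduction of a base change commutes with shifts. -/
theorem nonempty_coind_bc_shift (X : Dual.D A) (i : ℤ) :
    Nonempty (Rμ.obj ((L₁).obj (X⟦i⟧)) ≅ (Rμ.obj ((L₁).obj X))⟦i⟧) := by
  haveI : DRing.HasLBaseChange (algebraMap A (A ⊗[R] A)) :=
    ‹DRing.HasLBaseChange (Algebra.TensorProduct.includeLeftRingHom : A →+* A ⊗[R] A)›
  exact (((isCoind_of_adj adjμ _).shift i).of_iso
    (DualCxLib.bcShiftIso A (A ⊗[R] A) X i).symm (Iso.refl _)).iso_adj adjμ

include adjμ in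
theorem exists_dual_iso :
    ∃ V : Dual.D A, Function.Bijective (fun a : A => a • 𝟙 V) ∧
      (∀ i : ℤ, i ≠ 0 → Subsingleton (V ⟶ V⟦i⟧)) ∧
      ∀ K : Dual.D A, Nonempty (Rμ.obj ((L₁).obj K) ≅ Dual.inD A A) → Nonempty (V ≅ K) := by
  obtain ⟨V, h1, h2, hV⟩ := exists_dual R A Rμ adjμ
  refine ⟨V, h1, h2, fun K ⟨ξ⟩ => ?_⟩
  obtain ⟨Ψ⟩ := hV K
  let e : V ⟶ K := Ψ ξ.inv
  have hbij : Function.Bijective fun a : A => a • e := by
    convert Ψ.bijective.comp ((Linear.homCongr A (Iso.refl (Dual.inD A A)) ξ.symm).bijective.comp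
      (bijective_smul_id_inD (A := A))) using 1
    funext a
    show a • e = Ψ (Linear.homCongr A (Iso.refl _) ξ.symm (a • 𝟙 _))
    rw [map_smul, map_smul]
    simp [e, Linear.homCongr_apply]
  have hK : ∀ i : ℤ, i ≠ 0 → Subsingleton (V ⟶ K⟦i⟧) := fun i hi => by
    obtain ⟨Ψi⟩ := hV (K⟦i⟧)
    obtain ⟨c⟩ := nonempty_coind_bc_shift R A Rμ adjμ K i
    haveI := subsingleton_inD_shift_hom (A := A) i hi
    exact Ψi.toEquiv.subsingleton_congr.1
      ((Iso.homCongr (Iso.refl (Dual.inD A A)) (c ≪≫ (shiftFunctor (Dual.D A) i).mapIso ξ)).subsingleton_congr.2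
        inferInstance)
  obtain ⟨D, q, δ, hT⟩ := distinguished_cocone_triangle e
  have hsurj : ∀ (i : ℤ) (w : V ⟶ K⟦i⟧), ∃ v : V ⟶ V⟦i⟧, v ≫ e⟦i⟧' = w := fun i w => by
    rcases eq_or_ne i 0 with rfl | hi
    · let z := fun Y => (shiftFunctorZero (Dual.D A) ℤ).app Y
      obtain ⟨a, ha⟩ := hbij.2 (w ≫ (z K).hom)
      refine ⟨a • (z V).inv, ?_⟩
      have hn := (shiftFunctorZero (Dual.D A) ℤ).inv.naturality e
      dsimp at hn
      show (a • (z V).inv) ≫ e⟦(0 : ℤ)⟧' = w
      rw [Linear.smul_comp, show (z V).inv ≫ e⟦(0 : ℤ)⟧' = e ≫ (z K).inv from hn.symm, ← Linear.smul_comp]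
      replace ha : a • e = w ≫ (z K).hom := ha
      rw [ha, Category.assoc, Iso.hom_inv_id, Category.comp_id]
    · exact ⟨0, (hK i hi).elim _ _⟩
  have hinj : ∀ (i : ℤ) (v : V ⟶ V⟦i⟧), v ≫ e⟦i⟧' = 0 → v = 0 := fun i v hv => by
    rcases eq_or_ne i 0 with rfl | hi
    · let z := fun Y => (shiftFunctorZero (Dual.D A) ℤ).app Y
      obtain ⟨a, ha⟩ := h1.2 (v ≫ (z V).hom)
      replace ha : a • 𝟙 V = v ≫ (z V).hom := ha
      have hn := (shiftFunctorZero (Dual.D A) ℤ).hom.naturality e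
      dsimp at hn
      have h0 : a • e = (0 : A) • e := by
        rw [zero_smul, show a • e = (a • 𝟙 V) ≫ e by rw [Linear.smul_comp, Category.id_comp], ha, Category.assoc,
          show (z V).hom ≫ e = e⟦(0 : ℤ)⟧' ≫ (z K).hom from hn.symm, reassoc_of% hv, zero_comp]
      rw [← cancel_mono (z V).hom, ← ha, hbij.1 h0, zero_smul, zero_comp]
    · exact (h2 i hi).elim _ _
  have hD : ∀ i : ℤ, Subsingleton (V ⟶ D⟦i⟧) := fun i => by
    have hT' := Triangle.shift_distinguished _ hT i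
    have hz1 : e⟦i⟧' ≫ q⟦i⟧' = 0 := by
      rw [← Functor.map_comp, show e ≫ q = 0 from comp_distTriang_mor_zero₁₂ _ hT, Functor.map_zero]
    refine subsingleton_of_forall_eq 0 fun v => ?_
    let sc := (shiftFunctorComm (Dual.D A) (1 : ℤ) i).app
    have hd : v ≫ δ⟦i⟧' = 0 := by
      rw [← cancel_mono ((shiftFunctorAdd' (Dual.D A) (1 : ℤ) i (1 + i) rfl).inv.app V), zero_comp]
      refine hinj (1 + i) _ ?_
      have hn := (shiftFunctorAdd' (Dual.D A) (1 : ℤ) i (1 + i) rfl).inv.naturality e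
      dsimp at hn
      rw [Category.assoc, ← hn, Category.assoc, ← Functor.map_comp_assoc,
        show δ ≫ e⟦(1 : ℤ)⟧' = 0 from comp_distTriang_mor_zero₃₁ _ hT, Functor.map_zero, zero_comp, comp_zero]
    obtain ⟨w, hw⟩ : ∃ w : V ⟶ K⟦i⟧, v = w ≫ q⟦i⟧' := by
      obtain ⟨w, hw⟩ := Triangle.coyoneda_exact₃ _ hT' v (by
        show v ≫ (i.negOnePow • δ⟦i⟧' ≫ (shiftFunctorComm (Dual.D A) (1 : ℤ) i).hom.app V) = 0
        rw [Linear.comp_units_smul, ← Category.assoc, hd, zero_comp, smul_zero])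
      refine ⟨i.negOnePow • w, hw.trans ?_⟩
      show w ≫ (i.negOnePow • q⟦i⟧') = _
      rw [Linear.comp_units_smul, Linear.units_smul_comp]
    obtain ⟨v', rfl⟩ := hsurj i w
    rw [hw, Category.assoc, hz1, comp_zero]
  -- so the cone has no coinduced base change
  let μ := (Algebra.TensorProduct.lmul' R (S := A)).toRingHom
  have hμs : Function.Surjective μ := fun a =>
    ⟨a ⊗ₜ[R] 1, (Algebra.TensorProduct.lmul'_apply_tmul (R := R) a (1 : A)).trans (mul_one a)⟩
  have hzero : IsZero (Rμ.obj ((L₁).obj D)) := DTenLib.isZero_of_forall_eq_zero _ fun k v => by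
    obtain ⟨Ψk⟩ := hV (D⟦-k⟧)
    obtain ⟨c⟩ := nonempty_coind_bc_shift R A Rμ adjμ D (-k)
    have hs : Subsingleton (Dual.inD A A ⟶ (Rμ.obj ((L₁).obj D))⟦-k⟧) :=
      (Iso.homCongr (Iso.refl (Dual.inD A A)) c).subsingleton_congr.1 (Ψk.toEquiv.subsingleton_congr.2 (hD (-k)))
    let u : (DTen.unit A)⟦k⟧ ≅ (Dual.inD A A)⟦k⟧ :=
      (shiftFunctor (Dual.D A) k).mapIso (singleQZeroIso (ModuleCat.of A A))
    haveI : Subsingleton ((Dual.inD A A)⟦k⟧ ⟶ Rμ.obj ((L₁).obj D)) :=
      ((Functor.FullyFaithful.ofFullyFaithful (shiftFunctor (Dual.D A) (-k))).homEquiv.trans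
        (Iso.homCongr ((shiftFunctorCompIsoId (Dual.D A) k (-k) (add_neg_cancel k)).app _)
          (Iso.refl _))).subsingleton_congr.2 hs
    rw [← cancel_epi u.inv, Subsingleton.elim (u.inv ≫ v) 0, comp_zero]
  haveI : DRing.HasLBaseChange μ := DRingLib.hasLBaseChange _
  haveI : DRing.HasLBaseChange (μ.comp (Algebra.TensorProduct.includeLeftRingHom : A →+* A ⊗[R] A)) :=
    DRingLib.hasLBaseChange _
  haveI : Algebra.FiniteType R A := inferInstance
  have hker : (RingHom.ker μ).FG := KaehlerDifferential.ideal_fg R A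
  have hD1 := isZero_lbc_of_noHom μ hμs hker ((L₁).obj D) fun Y =>
    (adjμ.homEquiv Y _).subsingleton_congr.2 ⟨fun a b => hzero.eq_of_tgt a b⟩
  obtain ⟨a'⟩ := nonempty_lbc_comp' (Algebra.TensorProduct.includeLeftRingHom : A →+* A ⊗[R] A) μ
    (μ.comp Algebra.TensorProduct.includeLeftRingHom) rfl D
  obtain ⟨a''⟩ := nonempty_lbc_id (μ.comp (Algebra.TensorProduct.includeLeftRingHom : A →+* A ⊗[R] A))
    (RingHom.ext fun x => (Algebra.TensorProduct.lmul'_apply_tmul (R := R) x (1 : A)).trans (mul_one x)) D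
  have hiso : IsIso e := (Triangle.isZero₃_iff_isIso₁ _ hT).1 (hD1.of_iso (a' ≪≫ a'').symm)
  exact ⟨@asIso _ _ _ _ e hiso⟩

end Groth.Agent.RelDualUniqLib
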